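import Mathlib
import Cfsg.Agent.Lib.Offender.Timmesfeld
import Cfsg.Agent.S2999
import Cfsg.Agent.Lib.Fusion.Axioms

/-!
Offenders on the elements of order `p` of an abelian `p`-group `V`, inside a minimal overgroup
of a Sylow subgroup: a pair generating `SL(2, F)` on a natural module.
-/

set_option autoImplicit false
set_option linter.style.haveILetI false

namespace CfsgLib.CentralMoved

open Cfsg
open scoped commutatorElement MatrixGroups

universe u

variable {V : Type u} [CommGroup V] {p : ℕ}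

/-- The elements of order at most `p`. -/
def omW (V : Type u) [CommGroup V] (p : ℕ) : Subgroup V := (powMonoidHom p).ker

theorem mem_omW {w : V} : w ∈ omW V p ↔ w ^ p = 1 := Iff.rfl

/-- The elements of `omW` fixed by `B`. -/
def fixW (p : ℕ) (B : Subgroup (MulAut V)) : Subgroup V where
  carrier := {w | w ^ p = 1 ∧ ∀ b ∈ B, b w = w}
  one_mem' := ⟨one_pow p, fun b _ => map_one b⟩
  mul_mem' := fun {x y} hx hy => ⟨by rw [mul_pow, hx.1, hy.1, one_mul],
    fun b hb => by rw [map_mul, hx.2 b hb, hy.2 b hb]⟩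
  inv_mem' := fun {x} hx => ⟨by rw [inv_pow, hx.1, inv_one], fun b hb => by rw [map_inv, hx.2 b hb]⟩

theorem mem_fixW {B : Subgroup (MulAut V)} {w : V} :
    w ∈ fixW p B ↔ w ^ p = 1 ∧ ∀ b ∈ B, b w = w := Iff.rfl

/-- The measure of `B`. -/
noncomputable def meas (p : ℕ) (B : Subgroup (MulAut V)) : ℕ :=
  Nat.card B * Nat.card (fixW p B)

/-- A minimal offender on `omW`. -/
structure Off (p : ℕ) (H B : Subgroup (MulAut V)) : Prop where
  le : B ≤ H
  pgroup : IsPGroup p B
  comm : ∀ x ∈ B, ∀ y ∈ B, x * y = y * x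
  ne : B ≠ ⊥
  big : Nat.card (omW V p) ≤ meas p B
  small : ∀ B₀ ≤ B, B₀ ≠ ⊥ → B₀ ≠ B → meas p B₀ < Nat.card (omW V p)

/-- The stabiliser of a subgroup. -/
def stabT (T : Subgroup V) : Subgroup (MulAut V) where
  carrier := {g | ∀ t, g t ∈ T ↔ t ∈ T}
  one_mem' := fun t => Iff.rfl
  mul_mem' := fun {g h} hg hh t => (hg (h t)).trans (hh t)
  inv_mem' := fun {g} hg t => by
    conv_rhs => rw [show t = g (g⁻¹ t) from (MulAut.apply_inv_self _ g t).symm]
    exact (hg _).symm

theorem mem_stabT_of [Finite V] {T : Subgroup V} {g : MulAut V} (h : ∀ t ∈ T, g t ∈ T) : g ∈ stabT T := by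
  intro t
  refine ⟨fun ht => ?_, h t⟩
  have hmap : T.map g.toMonoidHom = T := Subgroup.eq_of_le_of_card_ge
    (by rintro _ ⟨x, hx, rfl⟩; exact h x hx)
    (Subgroup.card_map_of_injective g.injective).ge
  obtain ⟨x, hx, e⟩ := hmap.ge ht
  exact g.injective e ▸ hx

/-- A minimal overgroup of a Sylow subgroup `R` which does not stabilise `T`. -/
structure Setting (p : ℕ) (H R : Subgroup (MulAut V)) (T : Subgroup V) : Prop where
  le : R ≤ H
  pgroup : IsPGroup p R
  sylow : ¬ p ∣ R.relIndex H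
  fixT : ∀ r ∈ R, ∀ t ∈ T, r t = t
  move : ¬ H ≤ stabT T
  minimal : ∀ K : Subgroup (MulAut V), R ≤ K → K ≤ H → K ≠ H → K ≤ stabT T
  faith : ∀ h ∈ H, (∀ w : V, w ^ p = 1 → h w = w) → h = 1
  core : ∀ K : Subgroup (MulAut V), K ≤ H → IsPGroup p K →
    H ≤ Subgroup.normalizer (K : Set (MulAut V)) → K = ⊥
  off : ∃ A ≤ R, (∀ x ∈ A, ∀ y ∈ A, x * y = y * x) ∧ A ≠ ⊥ ∧ Nat.card (omW V p) ≤ meas p A

/-- Conjugation of a subgroup. -/
abbrev cj (g : MulAut V) (B : Subgroup (MulAut V)) : Subgroup (MulAut V) :=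
  B.map (MulAut.conj g).toMonoidHom

theorem cj_le {g : MulAut V} {K B : Subgroup (MulAut V)}
    (hg : g ∈ K) (hB : B ≤ K) : cj g B ≤ K := by
  rintro _ ⟨b, hb, rfl⟩
  exact K.mul_mem (K.mul_mem hg (hB hb)) (K.inv_mem hg)

theorem cj_cj (g h : MulAut V) (B : Subgroup (MulAut V)) : cj g (cj h B) = cj (g * h) B := by
  rw [cj, cj, cj, Subgroup.map_map]
  congr 1

theorem cj_one (B : Subgroup (MulAut V)) : cj 1 B = B := by
  ext x
  simp [cj, Subgroup.mem_map]

theorem cj_eq_of_mem [Finite V] {g : MulAut V} {K : Subgroup (MulAut V)}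
    (hg : g ∈ Subgroup.normalizer (K : Set (MulAut V))) : cj g K = K :=
  Subgroup.mem_normalizer_iff_map_conj_eq.mp hg

section Off

variable [Finite V] [Fact p.Prime]

omit [Finite V] [Fact p.Prime] in
theorem fixW_cj (g : MulAut V) (B : Subgroup (MulAut V)) :
    fixW p (cj g B) = (fixW p B).map g.toMonoidHom := by
  ext w
  constructor
  · rintro ⟨h1, h2⟩
    refine ⟨g⁻¹ w, ⟨by rw [← map_pow, h1, map_one], fun b hb => ?_⟩, MulAut.apply_inv_self _ g w⟩
    have h := h2 _ ⟨b, hb, rfl⟩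
    apply g.injective
    rw [MulAut.apply_inv_self]
    exact h
  · rintro ⟨x, ⟨h1, h2⟩, rfl⟩
    refine ⟨by rw [← map_pow, h1, map_one], ?_⟩
    rintro _ ⟨b, hb, rfl⟩
    show g (b (g⁻¹ (g x))) = g x
    rw [MulAut.inv_apply_self, h2 b hb]

omit [Fact p.Prime] in
theorem meas_cj (g : MulAut V) (B : Subgroup (MulAut V)) : meas p (cj g B) = meas p B := by
  rw [meas, meas, fixW_cj, Subgroup.card_map_of_injective (K := fixW p B) g.injective,
    Subgroup.card_map_of_injective (K := B) (MulAut.conj g).injective]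

omit [Fact p.Prime] in
theorem Off.cj {H B : Subgroup (MulAut V)} (h : Off p H B) {g : MulAut V} (hg : g ∈ H) :
    Off p H (cj g B) := by
  refine ⟨cj_le hg h.le, h.pgroup.map _, ?_, fun e => h.ne ?_, by rw [meas_cj]; exact h.big,
    fun B₀ hle hne hne' => ?_⟩
  · rintro _ ⟨x, hx, rfl⟩ _ ⟨y, hy, rfl⟩
    rw [← map_mul, ← map_mul, h.comm x hx y hy]
  · exact (Subgroup.map_eq_bot_iff_of_injective _ (MulAut.conj g).injective).1 e
  · have e : CfsgLib.CentralMoved.cj g (CfsgLib.CentralMoved.cj g⁻¹ B₀) = B₀ := by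
      rw [cj_cj, mul_inv_cancel, cj_one]
    rw [← e, meas_cj]
    refine h.small _ ?_ (fun e0 => hne ?_) (fun e0 => hne' ?_)
    · have e2 : CfsgLib.CentralMoved.cj g⁻¹ (CfsgLib.CentralMoved.cj g B) = B := by
        rw [cj_cj, inv_mul_cancel, cj_one]
      rw [← e2]
      exact Subgroup.map_mono hle
    · rw [← e, e0, CfsgLib.CentralMoved.cj, Subgroup.map_bot]
    · rw [← e, e0]

/-- The holomorph. -/
abbrev Hol (V : Type u) [CommGroup V] : Type u := V ⋊[MonoidHom.id (MulAut V)] MulAut V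

theorem finite_hol : Finite (Hol V) := Finite.of_equiv _ SemidirectProduct.equivProd.symm

/-- `omW` inside the holomorph. -/
abbrev hW (V : Type u) [CommGroup V] (p : ℕ) : Subgroup (Hol V) :=
  (omW V p).map SemidirectProduct.inl

/-- A group of automorphisms inside the holomorph. -/
abbrev hB (B : Subgroup (MulAut V)) : Subgroup (Hol V) := B.map SemidirectProduct.inr

omit [Finite V] [Fact p.Prime] in
theorem inr_conj (b : MulAut V) (v : V) :
    (SemidirectProduct.inr b * SemidirectProduct.inl v * (SemidirectProduct.inr b)⁻¹ : Hol V) =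
      SemidirectProduct.inl (b v) := by
  rw [← map_inv]
  exact (SemidirectProduct.inl_aut (φ := MonoidHom.id (MulAut V)) b v).symm

omit [Finite V] [Fact p.Prime] in
theorem inl_commute_iff (b : MulAut V) (v : V) :
    (SemidirectProduct.inr b * SemidirectProduct.inl v : Hol V) =
      SemidirectProduct.inl v * SemidirectProduct.inr b ↔ b v = v := by
  rw [← mul_inv_eq_iff_eq_mul, inr_conj]
  exact SemidirectProduct.inl_injective.eq_iff

omit [Finite V] [Fact p.Prime] in
theorem hB_le_normalizer [Finite V] (B : Subgroup (MulAut V)) :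
    hB B ≤ Subgroup.normalizer (hW V p : Set (Hol V)) := by
  haveI := finite_hol (V := V)
  rintro _ ⟨b, hb, rfl⟩
  refine Subgroup.mem_normalizer_iff_map_conj_eq.mpr (Subgroup.eq_of_le_of_card_ge ?_
    (Subgroup.card_map_of_injective (MulAut.conj _).injective).ge)
  rintro _ ⟨_, ⟨w, hw, rfl⟩, rfl⟩
  refine ⟨b w, ?_, (inr_conj b w).symm⟩
  show (b w) ^ p = 1
  rw [← map_pow, show w ^ p = 1 from hw, map_one]

omit [Finite V] [Fact p.Prime] in
theorem card_fix (B : Subgroup (MulAut V)) :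
    Nat.card ↥(hW V p ⊓ Subgroup.centralizer (hB B : Set (Hol V))) = Nat.card (fixW p B) := by
  rw [← Subgroup.card_map_of_injective (K := fixW p B)
    (SemidirectProduct.inl_injective (φ := MonoidHom.id (MulAut V)))]
  congr 2
  ext x
  constructor
  · rintro ⟨⟨w, hw, rfl⟩, hc⟩
    refine ⟨w, ⟨hw, fun b hb => ?_⟩, rfl⟩
    exact (inl_commute_iff b w).1 (hc _ ⟨b, hb, rfl⟩)
  · rintro ⟨w, ⟨hw, hc⟩, rfl⟩
    refine ⟨⟨w, hw, rfl⟩, ?_⟩
    rintro _ ⟨b, hb, rfl⟩
    exact (inl_commute_iff b w).2 (hc b hb)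

omit [Fact p.Prime] in
theorem tmeas_eq (B : Subgroup (MulAut V)) :
    Offender.Timmesfeld.meas (hW V p) (hB B) = meas p B := by
  rw [Offender.Timmesfeld.meas, Offender.Timmesfeld.fix, card_fix,
    Subgroup.card_map_of_injective SemidirectProduct.inr_injective, meas]

omit [Finite V] [Fact p.Prime] in
theorem hW_comm : ∀ x ∈ hW V p, ∀ y ∈ hW V p, Commute x y := by
  rintro _ ⟨x, -, rfl⟩ _ ⟨y, -, rfl⟩
  exact (Commute.all x y).map _

omit [Finite V] [Fact p.Prime] in
theorem comm_hol (b : MulAut V) (v : V) :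
    ⁅(SemidirectProduct.inr b : Hol V), (SemidirectProduct.inl v : Hol V)⁆ =
      SemidirectProduct.inl (b v * v⁻¹) := by
  rw [commutatorElement_def, inr_conj, map_mul, map_inv]

/-- Minimal offenders are elementary abelian. -/
theorem Off.elementary {H B : Subgroup (MulAut V)} (hV : IsPGroup p V)
    (hfaith : ∀ h ∈ H, (∀ w : V, w ^ p = 1 → h w = w) → h = 1)
    (h : Off p H B) : ∀ b ∈ B, b ^ p = 1 := by
  haveI := finite_hol (V := V)
  set W := hW V p with hWdef
  set A := hB B with hAdef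
  have hVc : ∀ x ∈ W, ∀ y ∈ W, Commute x y := hW_comm
  have hAW : A ≤ Subgroup.normalizer (W : Set (Hol V)) := hB_le_normalizer B
  have hab : ⁅A, A⁆ ≤ Subgroup.centralizer (W : Set (Hol V)) := Subgroup.commutator_le.2 fun x hx y hy => by
    obtain ⟨a, ha, rfl⟩ := hx
    obtain ⟨c, hc, rfl⟩ := hy
    rw [commutatorElement_eq_one_iff_commute.2
      ((show Commute a c from h.comm a ha c hc).map SemidirectProduct.inr)]
    exact one_mem _
  have hsub : ∀ K ≤ A, ∃ B₀ ≤ B, hB B₀ = K := fun K hK =>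
    ⟨B ⊓ K.comap SemidirectProduct.inr, inf_le_left,
      le_antisymm (Subgroup.map_le_iff_le_comap.2 inf_le_right) fun k hk => by
        obtain ⟨b, hb, rfl⟩ := hK hk
        exact ⟨b, ⟨hb, hk⟩, rfl⟩⟩
  have hbot : meas p (⊥ : Subgroup (MulAut V)) = Nat.card (omW V p) := by
    rw [meas, Subgroup.card_bot, one_mul]
    congr 2
    ext w
    exact ⟨fun hw => hw.1, fun hw => ⟨hw, fun b hb => by rw [Subgroup.mem_bot.1 hb]; rfl⟩⟩
  have hmax : ∀ K ≤ A, Offender.Timmesfeld.meas W K ≤ Offender.Timmesfeld.meas W A := by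
    intro K hK
    obtain ⟨B₀, hB₀, rfl⟩ := hsub K hK
    rw [tmeas_eq, tmeas_eq]
    by_cases h0 : B₀ = ⊥
    · rw [h0, hbot]; exact h.big
    by_cases h1 : B₀ = B
    · rw [h1]
    exact (h.small B₀ hB₀ h0 h1).le.trans h.big
  obtain ⟨hm, hfix⟩ := Offender.Timmesfeld.replacement hVc hAW hab hmax (le_refl W)
  set D := A ⊓ Subgroup.centralizer ((⁅W, A⁆ : Subgroup (Hol V)) : Set (Hol V)) with hD
  have hWA : ⁅W, A⁆ ≤ W := Subgroup.commutator_le.mpr fun v hv a ha => by
    rw [commutatorElement_def, mul_assoc v a, mul_assoc]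
    exact mul_mem hv ((Subgroup.mem_normalizer_iff.mp (hAW ha) _).mp (inv_mem hv))
  have hDA : D = A := by
    by_contra hne
    obtain ⟨B₀, hB₀, e₀⟩ := hsub D inf_le_left
    have hB0 : B₀ = ⊥ := by
      by_contra h0
      refine absurd hm (ne_of_lt ?_)
      rw [← e₀, tmeas_eq, tmeas_eq]
      exact (h.small B₀ hB₀ h0 fun e => hne (by rw [← e₀, e])).trans_le h.big
    have hDbot : D = ⊥ := by rw [← e₀, hB0, hB, Subgroup.map_bot]
    rw [hDbot] at hfix
    have hWle : W ≤ ⁅W, A⁆ ⊔ Offender.Timmesfeld.fix W A := by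
      rw [← hfix]
      refine le_inf le_rfl fun x _ => ?_
      rintro y hy
      rw [Subgroup.mem_bot.1 hy, one_mul, mul_one]
    obtain ⟨P, hP⟩ : ∃ P : Subgroup (Hol V), P = A ⊔ W := ⟨_, rfl⟩
    have hPp : IsPGroup p P := hP ▸
      (h.pgroup.map _).to_sup_of_normal_right' ((hV.to_subgroup _).map _) hAW
    haveI : Group.IsNilpotent ↥P := hPp.isNilpotent
    have hWP : W ≤ P := hP ▸ le_sup_right
    have hAP : A ≤ P := hP ▸ le_sup_left
    have hstep : ⁅W, A⁆ ≤ ⁅⁅W, A⁆, A⁆ := Subgroup.commutator_le.mpr fun v hv a ha => by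
      obtain ⟨w, hw, c, hc, rfl⟩ := (Subgroup.coe_mul_of_right_le_normalizer_left ⁅W, A⁆
        (Offender.Timmesfeld.fix W A) (fun c hc => Subgroup.centralizer_le_normalizer _
          (Subgroup.mem_centralizer_iff.mpr fun z hz => (hVc _ (hWA hz) _ hc.1).eq))).le (hWle hv)
      have h1 : ⁅w * c, a⁆ = ⁅w, a⁆ := by
        have h2 : a * c⁻¹ = c⁻¹ * a := Subgroup.mem_centralizer_iff.mp (inv_mem hc.2) a ha
        rw [commutatorElement_def, commutatorElement_def]
        calc w * c * a * (w * c)⁻¹ * a⁻¹ = w * c * (a * c⁻¹) * w⁻¹ * a⁻¹ := by group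
          _ = _ := by rw [h2]; group
      rw [h1]
      exact Subgroup.commutator_mem_commutator hw ha
    have hle : ∀ n, (⁅W, A⁆).subgroupOf P ≤ Subgroup.lowerCentralSeries (⊤ : Subgroup ↥P) n := by
      intro n
      induction n with
      | zero => exact le_top
      | succ n ih =>
        refine le_trans ?_ (Subgroup.commutator_mono ih (le_top : A.subgroupOf P ≤ ⊤))
        rw [← Subgroup.map_le_map_iff_of_injective P.subtype_injective, Subgroup.map_commutator,
          Subgroup.map_subgroupOf_eq_of_le (hWA.trans hWP), Subgroup.map_subgroupOf_eq_of_le hAP]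
        exact hstep
    obtain ⟨n, hn⟩ := Subgroup.nilpotent_iff_lowerCentralSeries.mp (inferInstance : Group.IsNilpotent ↥P)
    have h1 := (hle n).trans hn.le
    rw [le_bot_iff, Subgroup.subgroupOf_eq_bot] at h1
    have hcomm : ⁅W, A⁆ = ⊥ :=
      eq_bot_iff.mpr ((le_inf le_rfl (hWA.trans hWP)).trans (disjoint_iff.mp h1).le)
    refine h.ne (eq_bot_iff.2 fun b hb => Subgroup.mem_bot.2 (hfaith b (h.le hb) fun w hw => ?_))
    have h2 := Subgroup.commutator_eq_bot_iff_le_centralizer.1 hcomm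
      (⟨w, hw, rfl⟩ : SemidirectProduct.inl w ∈ W) (SemidirectProduct.inr b) ⟨b, hb, rfl⟩
    exact (inl_commute_iff b w).1 h2
  have hquad : ∀ b ∈ B, ∀ c ∈ B, ∀ w : V, w ^ p = 1 → b (c w * w⁻¹) = c w * w⁻¹ := by
    intro b hb c hc w hw
    refine (inl_commute_iff b _).1 ?_
    have h1 : (SemidirectProduct.inr b : Hol V) ∈ D := hDA ▸ ⟨b, hb, rfl⟩
    have h2 : (SemidirectProduct.inl (c w * w⁻¹) : Hol V) ∈ ⁅W, A⁆ := by
      rw [← comm_hol, ← commutatorElement_inv]
      exact inv_mem (Subgroup.commutator_mem_commutator ⟨w, hw, rfl⟩ ⟨c, hc, rfl⟩)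
    exact (h1.2 _ h2).symm
  intro b hb
  refine hfaith _ (H.pow_mem (h.le hb) p) fun w hw => ?_
  set u := b w * w⁻¹ with hu
  have hbu : b u = u := hquad b hb b hb w hw
  have hk : ∀ k : ℕ, (b ^ k) w = w * u ^ k := by
    intro k
    induction k with
    | zero => simp
    | succ k ih =>
      rw [pow_succ', MulAut.mul_apply, ih, map_mul, map_pow, hbu, hu]
      rw [pow_succ']
      simp [mul_comm, mul_assoc]
  rw [hk p, hu, mul_pow, ← map_pow, inv_pow, hw, map_one, inv_one, mul_one, mul_one]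

end Off

end CfsgLib.CentralMoved
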