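import Mathlib
import Cfsg.Agent.Lib.CentralMoved.Offenders
import Cfsg.Agent.Lib.Transfer.Sylow

/-!
The pair of minimal offenders: a subgroup `SL(2, F)` acting naturally on the elements of order `p`.
-/

set_option autoImplicit false
set_option linter.style.haveILetI false

namespace CfsgLib.CentralMoved

open Cfsg
open scoped commutatorElement MatrixGroups

universe u

variable {V : Type u} [CommGroup V] [Finite V] {p : ℕ} [hp : Fact p.Prime]

theorem finite_aut : Finite (MulAut V) :=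
  Finite.of_injective (fun f : MulAut V => (f : V → V)) DFunLike.coe_injective

omit hp in
/-- An `E`-fixed subgroup is fixed by `P` when the `E`-fixed elements of order `p` are. -/
theorem fix_of_fixW [Fact p.Prime] (hV : IsPGroup p V) {T : Subgroup V} {P E : Subgroup (MulAut V)}
    (hidx : ¬ p ∣ E.relIndex P) (hE : ∀ e ∈ E, ∀ t ∈ T, e t = t) (hEP : E ≤ P)
    (h : ∀ w : V, w ^ p = 1 → (∀ e ∈ E, e w = w) → ∀ g ∈ P, g w = w) :
    ∀ t ∈ T, ∀ g ∈ P, g t = t := by
  classical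
  haveI := finite_aut (V := V)
  haveI := Fintype.ofFinite (↥P ⧸ E.subgroupOf P)
  suffices key : ∀ n, ∀ t ∈ T, t ^ p ^ n = 1 → ∀ g ∈ P, g t = t from fun t ht => by
    obtain ⟨n, hn⟩ := hV t
    exact key n t ht hn
  intro n
  induction n with
  | zero =>
    intro t _ ht g _
    rw [pow_zero, pow_one] at ht
    rw [ht, map_one]
  | succ n ih =>
    intro t ht hpt g hg
    have hp' : ∀ g ∈ P, g (t ^ p) = t ^ p :=
      ih _ (T.pow_mem ht p) (by rw [← pow_mul, ← pow_succ']; exact hpt)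
    let f : ↥P ⧸ E.subgroupOf P → V := fun q => ((q.out : ↥P) : MulAut V) t
    have hf : ∀ (g : ↥P) q, f (g • q) = (g : MulAut V) (f q) := by
      intro g q
      have h1 : ((g • q).out)⁻¹ * (g * q.out) ∈ E.subgroupOf P := by
        rw [← QuotientGroup.eq, QuotientGroup.out_eq']
        conv_lhs => rw [← QuotientGroup.out_eq' q]
        rfl
      have h2 := hE _ (Subgroup.mem_subgroupOf.1 h1) t ht
      rw [Subgroup.coe_mul, Subgroup.coe_inv, MulAut.mul_apply] at h2
      have h3 := congrArg (((g • q).out : ↥P) : MulAut V) h2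
      rw [MulAut.apply_inv_self] at h3
      exact h3.symm
    set s := ∏ q, f q with hs
    have hsfix : ∀ g ∈ P, g s = s := fun g hg => by
      rw [hs, map_prod]
      refine Fintype.prod_equiv (MulAction.toPerm (⟨g, hg⟩ : ↥P)) _ _ fun q => ?_
      exact (hf ⟨g, hg⟩ q).symm
    set m := Fintype.card (↥P ⧸ E.subgroupOf P) with hm
    have hw : ∀ g ∈ P, g (s / t ^ m) = s / t ^ m := by
      refine h _ ?_ fun e he => by rw [map_div, hsfix e (hEP he), map_pow, hE e he t ht]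
      rw [div_pow, hs, ← Finset.prod_pow, Finset.prod_congr rfl (g := fun _ => t ^ p) fun q _ => ?_,
        Finset.prod_const, Finset.card_univ, ← pow_mul, ← pow_mul, mul_comm, div_self']
      show (((q.out : ↥P) : MulAut V) t) ^ p = t ^ p
      rw [← map_pow]
      exact hp' _ q.out.2
    have hm' : p.Coprime m := by
      rw [Nat.Prime.coprime_iff_not_dvd Fact.out, hm, ← Nat.card_eq_fintype_card]
      exact hidx
    have h3 := hw g hg
    rw [map_div, hsfix g hg, div_right_inj, map_pow] at h3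
    exact (hV.powEquiv hm').injective h3

/-- The conclusion of the offender argument. -/
structure Natural (p : ℕ) (H : Subgroup (MulAut V)) (T : Subgroup V) (F : Type) [Field F]
    [Fintype F] (P : Subgroup (MulAut V)) (σ : ↥P ≃* SL(2, F))
    (φ : ↥(omW V p) →* Multiplicative (Fin 2 → F)) : Prop where
  le : P ≤ H
  moves : ¬ P ≤ stabT T
  char : ∃ k : ℕ, 0 < k ∧ Fintype.card F = p ^ k
  surj : Function.Surjective φ
  ker : ∀ w : ↥(omW V p), φ w = 1 ↔ ∀ g ∈ P, g (w : V) = w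
  equi : ∀ (g : ↥P) (w w' : ↥(omW V p)), (w' : V) = (g : MulAut V) w →
    Multiplicative.toAdd (φ w') =
      (σ g : Matrix (Fin 2) (Fin 2) F).mulVec (Multiplicative.toAdd (φ w))
  line : ∀ g : ↥P, (σ g : Matrix (Fin 2) (Fin 2) F) 1 0 = 0 → (g : MulAut V) ∈ stabT T
  point : ∀ g : ↥P, (σ g : Matrix (Fin 2) (Fin 2) F) 1 0 = 0 →
    (σ g : Matrix (Fin 2) (Fin 2) F) 0 0 = 1 → ∀ t ∈ T, (g : MulAut V) t = t
  gen : ∃ x : ↥P, ∀ S : Subgroup ↥P, (∀ g : ↥P, (σ g : Matrix (Fin 2) (Fin 2) F) 1 0 = 0 →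
    (σ g : Matrix (Fin 2) (Fin 2) F) 0 0 = 1 → g ∈ S ∧ x * g * x⁻¹ ∈ S) → S = ⊤

variable {H R : Subgroup (MulAut V)} {T : Subgroup V}

omit [Finite V] hp in
theorem Setting.R_le_stab [Finite V] (h : Setting p H R T) : R ≤ stabT T :=
  fun r hr => mem_stabT_of fun t ht => by rw [h.fixT r hr t ht]; exact ht

theorem Setting.exists_conj_le (h : Setting p H R T) {K : Subgroup (MulAut V)} (hK : IsPGroup p K)
    (hKH : K ≤ H) (hKM : K ≤ stabT T) : ∃ m ∈ H ⊓ stabT T, cj m K ≤ R := by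
  haveI := finite_aut (V := V)
  set M := H ⊓ stabT T
  have hRM : R ≤ M := le_inf h.le h.R_le_stab
  have hidx : ¬ p ∣ (R.subgroupOf M).index := fun hd => h.sylow
    (hd.trans ⟨M.relIndex H, (Subgroup.relIndex_mul_relIndex R M H hRM inf_le_left).symm⟩)
  have hRp : IsPGroup p (R.subgroupOf M) :=
    h.pgroup.of_injective (Subgroup.subgroupOfEquivOfLe hRM).toMonoidHom (MulEquiv.injective _)
  let Rs : Sylow p M := hRp.toSylow hidx
  have hKp : IsPGroup p (K.subgroupOf M) :=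
    hK.of_injective (Subgroup.subgroupOfEquivOfLe (le_inf hKH hKM)).toMonoidHom (MulEquiv.injective _)
  obtain ⟨S, hS⟩ := hKp.exists_le_sylow
  obtain ⟨m, hm⟩ := Transfer.exists_map_conj_sylow_eq S Rs
  refine ⟨m, m.2, ?_⟩
  rintro _ ⟨k, hk, rfl⟩
  have h1 : (MulAut.conj m) ⟨k, le_inf hKH hKM hk⟩ ∈ (Rs : Subgroup M) :=
    hm ▸ ⟨_, hS (Subgroup.mem_subgroupOf.2 hk), rfl⟩
  exact h1

theorem Setting.fix_of_pgroup (h : Setting p H R T) {K : Subgroup (MulAut V)} (hK : IsPGroup p K)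
    (hKH : K ≤ H) (hKM : K ≤ stabT T) : ∀ k ∈ K, ∀ t ∈ T, k t = t := by
  intro k hk t ht
  obtain ⟨m, hm, hle⟩ := h.exists_conj_le hK hKH hKM
  have h1 := h.fixT _ (hle ⟨k, hk, rfl⟩) (m t) ((hm.2 t).2 ht)
  have h2 : m (k (m⁻¹ (m t))) = m t := h1
  rw [MulAut.inv_apply_self] at h2
  exact m.injective h2

/-- The offenders inside `U`. -/
def offs (p : ℕ) (H U : Subgroup (MulAut V)) : Subgroup (MulAut V) :=
  sSup {B | Off p H B ∧ B ≤ U}

omit [Finite V] hp in
theorem le_offs {U B : Subgroup (MulAut V)} (h : Off p H B) (hB : B ≤ U) : B ≤ offs p H U :=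
  le_sSup ⟨h, hB⟩

omit [Finite V] hp in
theorem offs_le (U : Subgroup (MulAut V)) : offs p H U ≤ U := sSup_le fun _ hB => hB.2

theorem cj_offs_le {g : MulAut V} (hg : g ∈ H) {U U' : Subgroup (MulAut V)} (hU : cj g U ≤ U') :
    cj g (offs p H U) ≤ offs p H U' := by
  rw [cj, Subgroup.map_le_iff_le_comap]
  refine sSup_le fun B hB => ?_
  rw [← Subgroup.map_le_iff_le_comap]
  exact le_offs (hB.1.cj hg) ((Subgroup.map_mono hB.2).trans hU)

theorem mem_normalizer_of_cj_le {g : MulAut V} {K : Subgroup (MulAut V)} (h : cj g K ≤ K) :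
    g ∈ Subgroup.normalizer (K : Set (MulAut V)) := by
  haveI := finite_aut (V := V)
  exact Subgroup.mem_normalizer_iff_map_conj_eq.mpr (Subgroup.eq_of_le_of_card_ge h
    (Subgroup.card_map_of_injective (MulAut.conj g).injective).ge)

omit hp in
theorem Setting.exists_off (hs : Setting p H R T) : ∃ B ≤ R, Off p H B := by
  haveI := finite_aut (V := V)
  obtain ⟨A, hAR, hAc, hA0, hAbig⟩ := hs.off
  obtain ⟨B, ⟨hBA, hB0, hBbig⟩, hmin⟩ := Set.exists_min_image
    {B : Subgroup (MulAut V) | B ≤ A ∧ B ≠ ⊥ ∧ Nat.card (omW V p) ≤ meas p B} (fun B => Nat.card B)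
    (Set.toFinite _) ⟨A, le_rfl, hA0, hAbig⟩
  refine ⟨B, hBA.trans hAR, (hBA.trans hAR).trans hs.le, hs.pgroup.to_le (hBA.trans hAR),
    fun x hx y hy => hAc x (hBA hx) y (hBA hy), hB0, hBbig, fun B₀ hle h0 hne => ?_⟩
  by_contra hbig
  push Not at hbig
  exact hne (Subgroup.eq_of_le_of_card_ge hle (hmin B₀ ⟨hle.trans hBA, h0, hbig⟩))

set_option maxHeartbeats 1600000 in
/-- An offender in a subgroup whose proper subgroups over it stabilise `T`, not normally. -/
theorem Setting.exists_pair (hs : Setting p H R T) :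
    ∃ B P : Subgroup (MulAut V), Off p H B ∧ B ≤ stabT T ∧ B ≤ P ∧ P ≤ H ∧ ¬ P ≤ stabT T ∧
      (∀ K : Subgroup (MulAut V), B ≤ K → K ≤ P → K ≠ P → K ≤ stabT T) ∧
      ¬ P ≤ Subgroup.normalizer ((P ⊓ stabT T : Subgroup (MulAut V)) : Set (MulAut V)) := by
  classical
  haveI := finite_aut (V := V)
  set S₀ := offs p H R with hS₀
  have hRS₀ : R ≤ Subgroup.normalizer (S₀ : Set (MulAut V)) := fun r hr =>
    mem_normalizer_of_cj_le (cj_offs_le (hs.le hr) (cj_le hr le_rfl))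
  have hS₀out : H ⊓ Subgroup.normalizer (S₀ : Set (MulAut V)) ≤ stabT T := by
    refine hs.minimal _ (le_inf hs.le hRS₀) inf_le_left fun e => ?_
    obtain ⟨B, hBR, hB⟩ := hs.exists_off
    have h1 := hs.core S₀ ((offs_le R).trans hs.le) (hs.pgroup.to_le (offs_le R))
      (e.ge.trans inf_le_right)
    exact hB.ne (eq_bot_iff.2 (h1 ▸ le_offs hB hBR))
  let 𝒰 : Set (Subgroup (MulAut V)) :=
    {U | U ≤ R ∧ offs p H U = U ∧ ¬ H ⊓ Subgroup.normalizer (U : Set (MulAut V)) ≤ stabT T}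
  obtain ⟨U, ⟨hUR, hUgen, hUN⟩, hmax⟩ := Set.exists_max_image 𝒰 (fun U => Nat.card U)
    (Set.toFinite _) ⟨⊥, bot_le, eq_bot_iff.2 (offs_le ⊥), fun h => hs.move fun g hg =>
      h ⟨hg, mem_normalizer_of_cj_le (by rw [cj, Subgroup.map_bot])⟩⟩
  obtain ⟨B, hB, hBR, hBU, hBN⟩ : ∃ B, Off p H B ∧ B ≤ R ∧ ¬ B ≤ U ∧
      B ≤ Subgroup.normalizer (U : Set (MulAut V)) := by
    by_contra hne
    push Not at hne
    set N₁ := R ⊓ Subgroup.normalizer (U : Set (MulAut V)) with hN₁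
    have hall : ∀ B, Off p H B → B ≤ N₁ → B ≤ U := fun B hB hle => by
      by_contra hBU
      exact hne B hB (hle.trans inf_le_left) hBU (hle.trans inf_le_right)
    have hN₁R : N₁ = R := by
      by_contra hN
      have hlt := Fusion.lt_normalizerIn (S := R) hs.pgroup (P := N₁) inf_le_left hN
      refine hlt.not_ge fun r hr => ⟨hr.1, mem_normalizer_of_cj_le ?_⟩
      rw [← hUgen]
      refine (cj_offs_le (hs.le hr.1) (Subgroup.map_mono (le_inf hUR Subgroup.le_normalizer)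
        |>.trans (cj_eq_of_mem hr.2).le)).trans ?_
      rw [hUgen]
      exact sSup_le fun B hB => hall B hB.1 hB.2
    have hUS : U = S₀ := le_antisymm
      (hUgen ▸ sSup_le fun B hB => le_offs hB.1 (hB.2.trans hUR))
      (sSup_le fun B hB => hall B hB.1 (hN₁R.symm ▸ hB.2))
    exact hUN (hUS ▸ hS₀out)
  obtain ⟨P, ⟨hBP, hPN, hPM⟩, hmin⟩ := Set.exists_min_image
    {P : Subgroup (MulAut V) | B ≤ P ∧ P ≤ H ⊓ Subgroup.normalizer (U : Set (MulAut V)) ∧
      ¬ P ≤ stabT T} (fun P => Nat.card P) (Set.toFinite _) ⟨_, le_inf hB.le hBN, le_rfl, hUN⟩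
  have hkey : ∀ K : Subgroup (MulAut V), B ≤ K → K ≤ P → K ≠ P → K ≤ stabT T := by
    intro K h1 h2 h3
    by_contra h4
    exact h3 (Subgroup.eq_of_le_of_card_ge h2 (hmin K ⟨h1, h2.trans hPN, h4⟩))
  refine ⟨B, P, hB, hBR.trans hs.R_le_stab, hBP, hPN.trans inf_le_left, hPM, hkey, fun hnor => ?_⟩
  -- the normal case
  set M' := (P ⊓ stabT T).subgroupOf P with hM'
  haveI hM'n : M'.Normal := Subgroup.normal_subgroupOf_of_le_normalizer hnor
  have hBM : B ≤ stabT T := hBR.trans hs.R_le_stab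
  have hBM' : B.subgroupOf P ≤ M' := Subgroup.comap_mono (le_inf hBP hBM)
  have hM'top : M' ≠ ⊤ := fun e =>
    hPM ((Subgroup.subgroupOf_eq_top.1 e).trans inf_le_right)
  set D' := Subgroup.normalClosure ((B.subgroupOf P : Subgroup P) : Set P) with hD'
  have hD'M : D' ≤ M' := Subgroup.normalClosure_le_normal hBM'
  have hB'D : B.subgroupOf P ≤ D' := Subgroup.subset_normalClosure
  have hB'p : IsPGroup p ((B.subgroupOf P).subgroupOf D') :=
    (hB.pgroup.of_injective (Subgroup.subgroupOfEquivOfLe hBP).toMonoidHom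
      (MulEquiv.injective _)).of_injective
      (Subgroup.subgroupOfEquivOfLe hB'D).toMonoidHom (MulEquiv.injective _)
  obtain ⟨E, hE⟩ := hB'p.exists_le_sylow
  set E' := (E : Subgroup D').map D'.subtype with hE'
  have hBE' : B.subgroupOf P ≤ E' := fun x hx =>
    ⟨⟨x, hB'D hx⟩, hE (Subgroup.mem_subgroupOf.2 hx), rfl⟩
  have hfr := Sylow.normalizer_sup_eq_top E
  have hNtop : Subgroup.normalizer (E' : Set P) = ⊤ := by
    by_contra hN
    apply hM'top
    rw [eq_top_iff, ← hfr]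
    refine sup_le (fun x hx => ?_) hD'M
    have h1 := hkey ((Subgroup.normalizer (E' : Set P)).map P.subtype)
      (fun b hb => ⟨⟨b, hBP hb⟩, Subgroup.le_normalizer (hBE' (Subgroup.mem_subgroupOf.2 hb)), rfl⟩)
      (Subgroup.map_subtype_le _) fun e => hN (Subgroup.map_injective P.subtype_injective
        (e.trans (by rw [← MonoidHom.range_eq_map, Subgroup.range_subtype])))
    exact ⟨x.2, h1 ⟨x, hx, rfl⟩⟩
  haveI hE'n : E'.Normal := Subgroup.normalizer_eq_top_iff.1 hNtop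
  have hD'E : D' ≤ E' := Subgroup.normalClosure_le_normal hBE'
  set D := D'.map P.subtype with hD
  have hDp : IsPGroup p D := ((E.2.map D'.subtype).to_le hD'E).map _
  have hDP : D ≤ P := Subgroup.map_subtype_le _
  have hBD : B ≤ D := fun b hb => ⟨⟨b, hBP hb⟩, hB'D (Subgroup.mem_subgroupOf.2 hb), rfl⟩
  set U' := D ⊔ U with hU'
  have hU'p : IsPGroup p U' := hDp.to_sup_of_normal_right' (hs.pgroup.to_le hUR)
    ((hDP.trans hPN).trans inf_le_right)
  have hU'H : U' ≤ H := sup_le ((hDP.trans hPN).trans inf_le_left) (hUR.trans hs.le)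
  have hU'M : U' ≤ stabT T := sup_le (by
    rintro _ ⟨x, hx, rfl⟩
    exact (hD'M hx).2) (hUR.trans hs.R_le_stab)
  have hU'gen : U' ≤ offs p H U' := by
    refine sup_le ?_ (hUgen.ge.trans (sSup_le fun B hB => le_offs hB.1 (hB.2.trans le_sup_right)))
    rw [hD, Subgroup.map_le_iff_le_comap, hD', Subgroup.normalClosure, Subgroup.closure_le]
    intro y hy
    obtain ⟨b, hb, hyb⟩ := Group.mem_conjugatesOfSet_iff.1 hy
    obtain ⟨g, rfl⟩ := isConj_iff.1 hyb
    have hle : cj (g : MulAut V) B ≤ D := by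
      rintro _ ⟨b', hb', rfl⟩
      exact ⟨g * ⟨b', hBP hb'⟩ * g⁻¹, (Subgroup.normalClosure_normal).conj_mem _
        (hB'D (Subgroup.mem_subgroupOf.2 hb')) g, rfl⟩
    exact le_offs (hB.cj (hPN g.2).1) (hle.trans le_sup_left)
      ⟨(b : MulAut V), Subgroup.mem_subgroupOf.1 hb, rfl⟩
  obtain ⟨m, hm, hmR⟩ := hs.exists_conj_le hU'p hU'H hU'M
  have hmem : cj m U' ∈ 𝒰 := by
    refine ⟨hmR, le_antisymm (offs_le _) ((Subgroup.map_mono hU'gen).trans
      (cj_offs_le hm.1 le_rfl)), fun hle => hPM fun g hg => ?_⟩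
    have hgU' : cj g U' = U' := by
      rw [hU', cj, Subgroup.map_sup]
      congr 1
      · rw [hD]
        refine cj_eq_of_mem (mem_normalizer_of_cj_le ?_)
        rintro _ ⟨_, ⟨d, hd, rfl⟩, rfl⟩
        exact ⟨⟨g, hg⟩ * d * ⟨g, hg⟩⁻¹, (Subgroup.normalClosure_normal).conj_mem _ hd _, rfl⟩
      · exact cj_eq_of_mem (hPN hg).2
    have h1 : m * g * m⁻¹ ∈ stabT T := hle
      ⟨H.mul_mem (H.mul_mem hm.1 (hPN hg).1) (H.inv_mem hm.1), mem_normalizer_of_cj_le (by
        rw [cj_cj, inv_mul_cancel_right, ← cj_cj, hgU'])⟩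
    have h2 := (stabT T).mul_mem ((stabT T).mul_mem ((stabT T).inv_mem hm.2) h1) hm.2
    rwa [show m⁻¹ * (m * g * m⁻¹) * m = g by group] at h2
  have h1 := hmax _ hmem
  rw [cj, Subgroup.card_map_of_injective (K := U') (MulAut.conj m).injective] at h1
  exact hBU ((hBD.trans le_sup_left).trans
    (Subgroup.eq_of_le_of_card_ge (le_sup_right : U ≤ U') h1).ge)

end CfsgLib.CentralMoved
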