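import Mathlib
import Cfsg.Agent.Lib.CentralMoved.Pair

/-!
The minimal pair generates `SL(2, F)`; coordinates with the fixed line first.
-/

set_option autoImplicit false
set_option linter.style.haveILetI false

namespace CfsgLib.CentralMoved

open Cfsg
open scoped commutatorElement MatrixGroups

universe u

theorem exists_first_column {F : Type*} [Field F] {v : Fin 2 → F} (hv : v ≠ 0) :
    ∃ M : SL(2, F), (M : Matrix (Fin 2) (Fin 2) F).mulVec ![1, 0] = v := by
  by_cases ha : v 0 = 0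
  · have hc : v 1 ≠ 0 := fun hc => hv (by ext i; fin_cases i <;> simpa)
    refine ⟨⟨!![0, -(v 1)⁻¹; v 1, 0], by simp [Matrix.det_fin_two, hc]⟩, ?_⟩
    ext i; fin_cases i <;> simp [Matrix.mulVec, dotProduct, Fin.sum_univ_two, ha]
  · refine ⟨⟨!![v 0, 0; v 1, (v 0)⁻¹], by simp [Matrix.det_fin_two, ha]⟩, ?_⟩
    ext i; fin_cases i <;> simp [Matrix.mulVec, dotProduct, Fin.sum_univ_two]

theorem upper_pow {F : Type*} [Field F] (M : SL(2, F)) (h10 : (M : Matrix (Fin 2) (Fin 2) F) 1 0 = 0)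
    (h00 : (M : Matrix (Fin 2) (Fin 2) F) 0 0 = 1) (n : ℕ) :
    ((M ^ n : SL(2, F)) : Matrix (Fin 2) (Fin 2) F) =
      !![1, (n : F) * (M : Matrix (Fin 2) (Fin 2) F) 0 1; 0, 1] := by
  have h11 : (M : Matrix (Fin 2) (Fin 2) F) 1 1 = 1 := by
    have h := M.det_coe
    rw [Matrix.det_fin_two, h10, h00] at h
    simpa using h
  induction n with
  | zero => simp [Matrix.one_fin_two]
  | succ n ih =>
    rw [pow_succ, Matrix.SpecialLinearGroup.coe_mul, ih]
    ext i j
    fin_cases i <;> fin_cases j <;> simp [Matrix.mul_apply, Fin.sum_univ_two, h10, h00, h11]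
    ring

theorem sl_mulVec_e {F : Type*} [Field F] (M : SL(2, F)) :
    (M : Matrix (Fin 2) (Fin 2) F).mulVec ![1, 0] =
      ![(M : Matrix (Fin 2) (Fin 2) F) 0 0, (M : Matrix (Fin 2) (Fin 2) F) 1 0] := by
  ext i; fin_cases i <;> simp [Matrix.mulVec, dotProduct, Fin.sum_univ_two]

/-- The Borel subgroup. -/
def borel (F : Type*) [Field F] : Subgroup SL(2, F) where
  carrier := {M | (M : Matrix (Fin 2) (Fin 2) F) 1 0 = 0}
  one_mem' := by simp
  mul_mem' := fun {A B} (hA : (A : Matrix (Fin 2) (Fin 2) F) 1 0 = 0)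
      (hB : (B : Matrix (Fin 2) (Fin 2) F) 1 0 = 0) => by
    simp [Matrix.mul_apply, Fin.sum_univ_two, hA, hB]
  inv_mem' := fun {A} (hA : (A : Matrix (Fin 2) (Fin 2) F) 1 0 = 0) => by
    simp [Matrix.SpecialLinearGroup.coe_inv, Matrix.adjugate_fin_two, hA]

/-- The stabiliser of the first basis vector. -/
def unip (F : Type*) [Field F] : Subgroup SL(2, F) where
  carrier := {M | (M : Matrix (Fin 2) (Fin 2) F).mulVec ![1, 0] = ![1, 0]}
  one_mem' := by simp
  mul_mem' := fun {A B} (hA : (A : Matrix (Fin 2) (Fin 2) F).mulVec ![1, 0] = ![1, 0])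
      (hB : (B : Matrix (Fin 2) (Fin 2) F).mulVec ![1, 0] = ![1, 0]) => by
    show ((A * B : SL(2, F)) : Matrix (Fin 2) (Fin 2) F).mulVec ![1, 0] = ![1, 0]
    rw [Matrix.SpecialLinearGroup.coe_mul, ← Matrix.mulVec_mulVec, hB, hA]
  inv_mem' := fun {A} (hA : (A : Matrix (Fin 2) (Fin 2) F).mulVec ![1, 0] = ![1, 0]) => by
    show ((A⁻¹ : SL(2, F)) : Matrix (Fin 2) (Fin 2) F).mulVec ![1, 0] = ![1, 0]
    conv_lhs => rw [← hA]
    rw [Matrix.mulVec_mulVec, ← Matrix.SpecialLinearGroup.coe_mul, inv_mul_cancel,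
      Matrix.SpecialLinearGroup.coe_one, Matrix.one_mulVec]

theorem mem_unip {F : Type*} [Field F] {M : SL(2, F)} :
    M ∈ unip F ↔ (M : Matrix (Fin 2) (Fin 2) F) 1 0 = 0 ∧ (M : Matrix (Fin 2) (Fin 2) F) 0 0 = 1 := by
  show (M : Matrix (Fin 2) (Fin 2) F).mulVec ![1, 0] = ![1, 0] ↔ _
  rw [sl_mulVec_e]
  constructor
  · intro h; exact ⟨congrFun h 1, congrFun h 0⟩
  · rintro ⟨h1, h2⟩; rw [h1, h2]

theorem borel_le_normalizer (F : Type*) [Field F] [Finite F] :
    borel F ≤ Subgroup.normalizer (unip F : Set SL(2, F)) := by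
  intro A hA
  refine Subgroup.mem_normalizer_iff_map_conj_eq.mpr (Subgroup.eq_of_le_of_card_ge ?_
    (Subgroup.card_map_of_injective (MulAut.conj A).injective).ge)
  rintro _ ⟨M, hM, rfl⟩
  obtain ⟨h1, h2⟩ := mem_unip.1 hM
  have h3 : (M : Matrix (Fin 2) (Fin 2) F) 1 1 = 1 := by
    have h := M.det_coe
    rw [Matrix.det_fin_two, h1, h2] at h
    simpa using h
  have hA' : (A : Matrix (Fin 2) (Fin 2) F) 1 0 = 0 := hA
  have hd := A.det_coe
  rw [Matrix.det_fin_two, hA', mul_zero, sub_zero] at hd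
  refine mem_unip.2 ⟨?_, ?_⟩
  · simp [Matrix.SpecialLinearGroup.coe_inv, Matrix.adjugate_fin_two, Matrix.mul_apply,
      Fin.sum_univ_two, h1, h3, hA']
  · simp [Matrix.SpecialLinearGroup.coe_inv, Matrix.adjugate_fin_two, Matrix.mul_apply,
      Fin.sum_univ_two, h1, h2, hA', hd]

variable {V : Type u} [CommGroup V] [Finite V] {p : ℕ} [hp : Fact p.Prime]
variable {H R : Subgroup (MulAut V)} {T : Subgroup V}

set_option maxHeartbeats 4000000 in
theorem Setting.exists_natural (hV : IsPGroup p V) (hs : Setting p H R T) :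
    ∃ (F : Type) (_ : Field F) (_ : Fintype F) (P : Subgroup (MulAut V)) (σ : ↥P ≃* SL(2, F))
      (φ : ↥(omW V p) →* Multiplicative (Fin 2 → F)), Natural p H T F P σ φ := by
  classical
  haveI := finite_aut (V := V)
  haveI := finite_hol (V := V)
  obtain ⟨B, P, hOff, hBM, hBP, hPH, hPM, hkey, hnn⟩ := hs.exists_pair
  have hfaith := hs.faith
  set M₀ := P ⊓ stabT T with hM₀
  -- in the subgroup `P`
  set Mp : Subgroup ↥P := M₀.subgroupOf P with hMp
  set B' : Subgroup ↥P := B.subgroupOf P with hB'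
  have hB'p : IsPGroup p B' :=
    hOff.pgroup.of_injective (Subgroup.subgroupOfEquivOfLe hBP).toMonoidHom (MulEquiv.injective _)
  have hMptop : Mp ≠ ⊤ := fun e => hPM ((Subgroup.subgroupOf_eq_top.1 e).trans inf_le_right)
  have hkey' : ∀ X : Subgroup ↥P, B' ≤ X → X ≠ ⊤ → X ≤ Mp := by
    intro X hX hne x hx
    have h1 := hkey (X.map P.subtype)
      (fun b hb => ⟨⟨b, hBP hb⟩, hX (Subgroup.mem_subgroupOf.2 hb), rfl⟩)
      (Subgroup.map_subtype_le _) fun e => hne (Subgroup.map_injective P.subtype_injective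
        (e.trans (by rw [← MonoidHom.range_eq_map, Subgroup.range_subtype])))
    exact ⟨x.2, h1 ⟨x, hx, rfl⟩⟩
  obtain ⟨S, hS⟩ := hB'p.exists_le_sylow
  have hB'M : B' ≤ Mp := Subgroup.comap_mono (le_inf hBP hBM)
  have hnP : ¬ IsPGroup p ↥P := by
    intro hP
    haveI : Group.IsNilpotent ↥P := hP.isNilpotent
    obtain ⟨y, hy, hyM⟩ := SetLike.exists_of_lt
      (Group.normalizerCondition_of_isNilpotent Mp (lt_top_iff_ne_top.2 hMptop))
    refine hyM (hkey' _ (hB'M.trans Subgroup.le_normalizer) (fun e => hnn ?_) hy)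
    haveI := Subgroup.normalizer_eq_top_iff.1 e
    exact Subgroup.normal_subgroupOf_iff_le_normalizer inf_le_left |>.1 inferInstance
  have hStop : (S : Subgroup ↥P) ≠ ⊤ := fun e => hnP (IsPGroup.of_equiv S.2
    ((MulEquiv.subgroupCongr e).trans Subgroup.topEquiv))
  have hSM : (S : Subgroup ↥P) ≤ Mp := hkey' _ hS hStop
  have hMpN : Subgroup.normalizer (Mp : Set ↥P) = Mp := by
    refine le_antisymm (hkey' _ (hB'M.trans Subgroup.le_normalizer) fun e => hnn ?_)
      Subgroup.le_normalizer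
    haveI := Subgroup.normalizer_eq_top_iff.1 e
    exact Subgroup.normal_subgroupOf_iff_le_normalizer inf_le_left |>.1 inferInstance
  have hconj : ∀ x : ↥P, x ∉ Mp → ¬ B'.map (MulAut.conj x).toMonoidHom ≤ Mp := by
    intro x hx hle
    have h1 : B' ≤ Mp.map (MulAut.conj x⁻¹).toMonoidHom := fun b hb =>
      ⟨_, hle ⟨b, hb, rfl⟩, by simp [mul_assoc]⟩
    have h2 : Mp.map (MulAut.conj x⁻¹).toMonoidHom ≤ Mp := hkey' _ h1 fun e => hMptop
      (Subgroup.map_injective (MulEquiv.injective _) (e.trans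
        (Subgroup.map_top_of_surjective _ (MulEquiv.surjective _)).symm))
    have h3 : x⁻¹ ∈ Subgroup.normalizer (Mp : Set ↥P) :=
      Subgroup.mem_normalizer_iff_map_conj_eq.mpr (Subgroup.eq_of_le_of_card_ge h2
        (Subgroup.card_map_of_injective (MulAut.conj x⁻¹).injective).ge)
    rw [hMpN] at h3
    exact hx ((inv_inv x) ▸ Mp.inv_mem h3)
  obtain ⟨x₀, hx₀⟩ : ∃ x : ↥P, x ∉ Mp := by
    by_contra h
    push Not at h
    exact hMptop (eq_top_iff.2 fun g _ => h g)
  have hgen : ∀ x : ↥P, x ∉ Mp → B' ⊔ B'.map (MulAut.conj x).toMonoidHom = ⊤ := fun x hx => by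
    by_contra hne
    exact hconj x hx (le_sup_right.trans (hkey' _ le_sup_left hne))
  have hcore : ∀ K : Subgroup ↥P, B' ≤ K → Subgroup.normalizer (K : Set ↥P) = ⊤ → K = ⊤ := by
    intro K hK hN
    haveI := Subgroup.normalizer_eq_top_iff.1 hN
    rw [eq_top_iff, ← hgen x₀ hx₀]
    refine sup_le hK ?_
    rintro _ ⟨b, hb, rfl⟩
    exact Subgroup.Normal.conj_mem inferInstance b (hK hb) x₀
  have hSfix : ∀ e ∈ (S : Subgroup ↥P), ∀ t ∈ T, (e : MulAut V) t = t := fun e he t ht =>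
    hs.fix_of_pgroup (S.2.map P.subtype) ((Subgroup.map_subtype_le _).trans hPH)
      (by rintro _ ⟨y, hy, rfl⟩; exact (hSM hy).2) e ⟨e, he, rfl⟩ t ht
  -- the fixed points of the Sylow subgroup
  obtain ⟨w₀, hw₀, hw₀S, g₀, hg₀⟩ : ∃ w : V, w ^ p = 1 ∧
      (∀ e ∈ (S : Subgroup ↥P), (e : MulAut V) w = w) ∧ ∃ g : ↥P, (g : MulAut V) w ≠ w := by
    by_contra hcon
    push Not at hcon
    refine hPM fun g hg => mem_stabT_of fun t ht => ?_
    rw [fix_of_fixW hV (P := P) (E := (S : Subgroup ↥P).map P.subtype) ?_ ?_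
      (Subgroup.map_subtype_le _) (fun w hw h g hg => hcon w hw (fun e he => h e ⟨e, he, rfl⟩) ⟨g, hg⟩)
      t ht g hg]
    · exact ht
    · rw [Subgroup.relIndex, Subgroup.subgroupOf, Subgroup.comap_map_eq_self_of_injective P.subtype_injective]
      exact S.not_dvd_index
    · rintro _ ⟨e, he, rfl⟩ t ht
      exact hSfix e he t ht
  -- the holomorph
  let ι : MulAut V →* Hol V := SemidirectProduct.inr
  let e : ↥P ≃* ↥(hB P) := P.equivMapOfInjective _ SemidirectProduct.inr_injective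
  have he : ∀ g : ↥P, (e g : Hol V) = SemidirectProduct.inr (g : MulAut V) := fun g => rfl
  let T' : Sylow p ↥(hB P) := S.mapSurjective (f := e.toMonoidHom) e.surjective
  have hT' : (T' : Subgroup ↥(hB P)) = (S : Subgroup ↥P).map e.toMonoidHom := rfl
  set M' := Mp.map e.toMonoidHom with hM'
  have hM'key : ∀ X : Subgroup ↥(hB P), B'.map e.toMonoidHom ≤ X → X ≠ ⊤ → X ≤ M' := by
    intro X hX hne
    have h1 := hkey' (X.comap e.toMonoidHom) (Subgroup.map_le_iff_le_comap.1 hX) fun h => hne (by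
      rw [← Subgroup.map_comap_eq_self_of_surjective (f := e.toMonoidHom) e.surjective X, h,
        Subgroup.map_top_of_surjective _ e.surjective])
    rw [← Subgroup.map_comap_eq_self_of_surjective (f := e.toMonoidHom) e.surjective X]
    exact Subgroup.map_mono h1
  have hM'top : M' ≠ ⊤ := fun h => hMptop (Subgroup.map_injective e.injective
    (h.trans (Subgroup.map_top_of_surjective _ e.surjective).symm))
  have hM' : IsCoatom M' := ⟨hM'top, fun X hX => by
    by_contra hne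
    exact hX.not_ge (hM'key X ((Subgroup.map_mono hB'M).trans hX.le) hne)⟩
  have hT'n : ¬ (T' : Subgroup ↥(hB P)).Normal := by
    intro hn
    have hSn : (S : Subgroup ↥P).Normal := by
      rw [show (S : Subgroup ↥P) = (T' : Subgroup ↥(hB P)).comap e.toMonoidHom by
        rw [hT', Subgroup.comap_map_eq_self_of_injective e.injective]]
      exact hn.comap _
    exact hStop (hcore _ hS (Subgroup.normalizer_eq_top_iff.2 hSn))
  have hmin : Cfsg.IsPMinimal p ↥(hB P) := by
    intro Q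
    obtain ⟨g, hg⟩ := Transfer.exists_map_conj_sylow_eq T' Q
    refine ⟨fun hn => hT'n ?_, M'.map (MulAut.conj g).toMonoidHom, ⟨?_, ?_⟩, fun X hX => ?_⟩
    · have : (T' : Subgroup ↥(hB P)) = (Q : Subgroup ↥(hB P)).comap (MulAut.conj g).toMonoidHom := by
        rw [← hg, Subgroup.comap_map_eq_self_of_injective (MulEquiv.injective _)]
      rw [this]
      exact hn.comap _
    · exact ((MulAut.conj g).mapSubgroup.isCoatom_iff M').2 hM'
    · rw [← hg]
      exact Subgroup.map_mono (Subgroup.map_mono hSM)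
    · obtain ⟨hXc, hQX⟩ := hX
      have h1 : X.comap (MulAut.conj g).toMonoidHom ≤ M' := by
        refine hM'key _ (((Subgroup.map_mono hS).trans ?_)) fun h => hXc.1 ?_
        · rw [← hT', ← Subgroup.map_le_iff_le_comap, hg]
          exact hQX
        · rw [← Subgroup.map_comap_eq_self_of_surjective (f := (MulAut.conj g).toMonoidHom)
            (MulEquiv.surjective _) X, h, Subgroup.map_top_of_surjective _ (MulEquiv.surjective _)]
      have h2 : X ≤ M'.map (MulAut.conj g).toMonoidHom := by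
        rw [← Subgroup.map_comap_eq_self_of_surjective (f := (MulAut.conj g).toMonoidHom)
            (MulEquiv.surjective _) X]
        exact Subgroup.map_mono h1
      rcases h2.eq_or_lt with h3 | h3
      · exact h3
      · exact absurd (hXc.2 _ h3) (((MulAut.conj g).mapSubgroup.isCoatom_iff M').2 hM').1
  have hel : Cfsg.IsElementaryAbelian p (hB B) := by
    refine ⟨⟨⟨?_⟩⟩, ?_⟩
    · rintro ⟨_, x, hx, rfl⟩ ⟨_, y, hy, rfl⟩
      refine Subtype.ext ?_
      show (SemidirectProduct.inr x * SemidirectProduct.inr y : Hol V) = _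
      rw [← map_mul, hOff.comm x hx y hy, map_mul]
      rfl
    · rintro _ ⟨x, hx, rfl⟩
      rw [← map_pow, hOff.elementary hV hfaith x hx, map_one]
  have hWel : Cfsg.IsElementaryAbelian p (hW V p) := by
    refine ⟨⟨⟨fun a b => Subtype.ext (hW_comm _ a.2 _ b.2).eq⟩⟩, ?_⟩
    rintro _ ⟨x, hx, rfl⟩
    rw [← map_pow, show x ^ p = 1 from hx, map_one]
  have hcW : Nat.card (hW V p) = Nat.card (omW V p) :=
    Subgroup.card_map_of_injective SemidirectProduct.inl_injective
  obtain ⟨F, iF, iFin, hFcard, hiso, -, hact⟩ := Cfsg.Agent.S2999.result (p := p) (hW V p) (hB P) hWel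
    (hB_le_normalizer P) (by
      rw [eq_bot_iff]
      rintro _ ⟨⟨g, hg, rfl⟩, hc⟩
      refine Subgroup.mem_bot.2 ?_
      rw [hfaith g (hPH hg) fun w hw => (inl_commute_iff g w).1 (hc _ ⟨w, hw, rfl⟩).symm, map_one])
    hmin T' M' hM' (Subgroup.map_mono hSM) (hB B) (by
      rintro _ ⟨b, hb, rfl⟩
      exact ⟨e ⟨b, hBP hb⟩, ⟨⟨b, hBP hb⟩, hS (Subgroup.mem_subgroupOf.2 hb), rfl⟩, rfl⟩)
    hel ⟨by rw [card_fix, hcW, Subgroup.card_map_of_injective SemidirectProduct.inr_injective]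
            exact hOff.big, fun A₀ h1 h2 h3 => by
      obtain ⟨B₀, hB₀, rfl⟩ : ∃ B₀ ≤ B, hB B₀ = A₀ :=
        ⟨B ⊓ A₀.comap SemidirectProduct.inr, inf_le_left,
          le_antisymm (Subgroup.map_le_iff_le_comap.2 inf_le_right) fun k hk => by
            obtain ⟨b, hb, rfl⟩ := h1 hk
            exact ⟨b, ⟨hb, hk⟩, rfl⟩⟩
      rw [card_fix, card_fix, Subgroup.card_map_of_injective SemidirectProduct.inr_injective,
        Subgroup.card_map_of_injective SemidirectProduct.inr_injective]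
      exact (hOff.small B₀ hB₀ (fun h => h2 (by rw [h]; exact Subgroup.map_bot _))
        (fun h => h3 (by rw [h]))).trans_le hOff.big⟩
    (by
      intro hbot
      apply hg₀
      refine (inl_commute_iff _ _).1 (Subgroup.commutator_eq_bot_iff_le_centralizer.1 hbot
        ⟨⟨w₀, hw₀, rfl⟩, ?_⟩ _ ⟨g₀, g₀.2, rfl⟩)
      rintro _ ⟨_, ⟨y, hy, rfl⟩, rfl⟩
      exact (inl_commute_iff _ _).2 (hw₀S y hy))
    (fun x hx => by
      obtain ⟨x, rfl⟩ := e.surjective x
      have hx' : x ∉ Mp := fun h => hx ⟨x, h, rfl⟩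
      have h1 := congrArg (Subgroup.map (SemidirectProduct.inr.comp P.subtype :
        ↥P →* Hol V)) (hgen x hx')
      rw [Subgroup.map_sup, ← MonoidHom.range_eq_map, MonoidHom.range_comp,
        Subgroup.range_subtype] at h1
      refine Eq.trans ?_ h1
      congr 1
      · rw [← Subgroup.map_map, Subgroup.map_subgroupOf_eq_of_le hBP]
      · rw [show hB B = (B'.map P.subtype).map SemidirectProduct.inr by
          rw [Subgroup.map_subgroupOf_eq_of_le hBP]]
        rw [Subgroup.map_map, Subgroup.map_map, Subgroup.map_map]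
        congr 1
        exact MonoidHom.ext fun y => by simp [he])
  obtain ⟨-, -, ρ₀, ψ₀, hρr, hψs, hψk, hψe⟩ := hact
  -- back to `P`, with the fixed vector first
  let jW : ↥(omW V p) ≃* ↥(hW V p) :=
    (omW V p).equivMapOfInjective _ SemidirectProduct.inl_injective
  have hjW : ∀ w : ↥(omW V p), (jW w : Hol V) = SemidirectProduct.inl (w : V) := fun w => rfl
  let ρ : ↥P →* SL(2, F) := ρ₀.comp e.toMonoidHom
  let ψ : ↥(omW V p) →* Multiplicative (Fin 2 → F) := ψ₀.comp jW.toMonoidHom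
  have hψker : ∀ w : ↥(omW V p), ψ w = 1 ↔ ∀ g ∈ P, g (w : V) = w := by
    intro w
    refine (hψk (jW w)).trans ⟨fun h g hg => ?_, fun h => ⟨⟨w, w.2, rfl⟩, ?_⟩⟩
    · exact (inl_commute_iff g w).1 (h.2 _ ⟨g, hg, rfl⟩)
    · rintro _ ⟨g, hg, rfl⟩
      exact (inl_commute_iff g w).2 (h g hg)
  have hψeq : ∀ (g : ↥P) (w w' : ↥(omW V p)), (w' : V) = (g : MulAut V) w →
      Multiplicative.toAdd (ψ w') =
        (ρ g : Matrix (Fin 2) (Fin 2) F).mulVec (Multiplicative.toAdd (ψ w)) := by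
    intro g w w' hw'
    obtain ⟨u, hu, huv⟩ := hψe (e g) (jW w)
    have : u = jW w' := Subtype.ext (by rw [hu, hjW, hjW, he, inr_conj, hw'])
    rw [this] at huv
    exact huv
  have hψsurj : Function.Surjective ψ := hψs.comp jW.surjective
  have hρinj : Function.Injective ρ := by
    refine (injective_iff_map_eq_one ρ).2 fun g hg => ?_
    by_contra hne
    have hcardP : Nat.card ↥(hB P) = Nat.card ↥P :=
      Subgroup.card_map_of_injective SemidirectProduct.inr_injective
    have hsurj : Function.Surjective ρ₀ := MonoidHom.range_eq_top.1 hρr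
    have hcard : Nat.card ↥(hB P) = Nat.card SL(2, F) := by
      exact Nat.card_congr hiso.some.toEquiv
    exact hne (e.injective (((Nat.bijective_iff_surjective_and_card _).2 ⟨hsurj, hcard⟩).injective
      (by rw [map_one, map_one]; exact hg)))
  have hρsurj : Function.Surjective ρ := (MonoidHom.range_eq_top.1 hρr).comp e.surjective
  set v := Multiplicative.toAdd (ψ ⟨w₀, hw₀⟩) with hv
  have hv0 : v ≠ 0 := fun h0 => hg₀ ((hψker ⟨w₀, hw₀⟩).1 (Multiplicative.toAdd.injective h0) g₀ g₀.2)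
  obtain ⟨M, hMv⟩ := exists_first_column hv0
  let σ : ↥P ≃* SL(2, F) :=
    (MulEquiv.ofBijective ρ ⟨hρinj, hρsurj⟩).trans (MulAut.conj M⁻¹)
  have hσ : ∀ g, σ g = M⁻¹ * ρ g * M := fun g => by
    show M⁻¹ * ρ g * M⁻¹⁻¹ = _
    rw [inv_inv]
  let φ : ↥(omW V p) →* Multiplicative (Fin 2 → F) :=
    { toFun := fun w => Multiplicative.ofAdd
        (((M⁻¹ : SL(2, F)) : Matrix (Fin 2) (Fin 2) F).mulVec (Multiplicative.toAdd (ψ w)))
      map_one' := by rw [map_one, toAdd_one, Matrix.mulVec_zero]; rfl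
      map_mul' := fun a b => by rw [map_mul, toAdd_mul, Matrix.mulVec_add]; rfl }
  have hφ : ∀ w, Multiplicative.toAdd (φ w) =
      ((M⁻¹ : SL(2, F)) : Matrix (Fin 2) (Fin 2) F).mulVec (Multiplicative.toAdd (ψ w)) := fun w => rfl
  have hMM : ∀ u : Fin 2 → F, (M : Matrix (Fin 2) (Fin 2) F).mulVec
      (((M⁻¹ : SL(2, F)) : Matrix (Fin 2) (Fin 2) F).mulVec u) = u := fun u => by
    rw [Matrix.mulVec_mulVec, ← Matrix.SpecialLinearGroup.coe_mul, mul_inv_cancel,
      Matrix.SpecialLinearGroup.coe_one, Matrix.one_mulVec]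
  have hMM' : ∀ u : Fin 2 → F, ((M⁻¹ : SL(2, F)) : Matrix (Fin 2) (Fin 2) F).mulVec
      ((M : Matrix (Fin 2) (Fin 2) F).mulVec u) = u := fun u => by
    rw [Matrix.mulVec_mulVec, ← Matrix.SpecialLinearGroup.coe_mul, inv_mul_cancel,
      Matrix.SpecialLinearGroup.coe_one, Matrix.one_mulVec]
  -- the stabiliser of the first vector
  set U := (unip F).comap σ.toMonoidHom with hU
  have hSU : (S : Subgroup ↥P) ≤ U := by
    intro y hy
    show (σ y : Matrix (Fin 2) (Fin 2) F).mulVec ![1, 0] = ![1, 0]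
    rw [hσ, Matrix.SpecialLinearGroup.coe_mul, Matrix.SpecialLinearGroup.coe_mul,
      ← Matrix.mulVec_mulVec, ← Matrix.mulVec_mulVec, hMv,
      ← hψeq y ⟨w₀, hw₀⟩ ⟨w₀, hw₀⟩ (hw₀S y hy).symm, ← hv, ← hMv, hMM']
  have hUtop : U ≠ ⊤ := by
    intro htop
    obtain ⟨y, hy⟩ := σ.surjective ⟨!![0, -1; 1, 0], by simp [Matrix.det_fin_two]⟩
    have h1 : σ y ∈ unip F := htop.ge (Subgroup.mem_top y)
    have h2 := (mem_unip.1 h1).1
    rw [hy] at h2
    simp at h2
  have hB'U : B' ≤ U := hS.trans hSU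
  have hUM : U ≤ Mp := hkey' U hB'U hUtop
  have hk : ∃ k, 0 < k ∧ Fintype.card F = p ^ k := by
    obtain ⟨k, hk⟩ := IsPGroup.iff_card.1 (hOff.pgroup.map (SemidirectProduct.inr :
      MulAut V →* Hol V))
    refine ⟨k, Nat.pos_of_ne_zero fun h0 => ?_, hFcard.trans hk⟩
    have := Fintype.one_lt_card (α := F)
    rw [hFcard, hk, h0, pow_zero] at this
    exact lt_irrefl _ this
  have hchar : (p : F) = 0 := by
    obtain ⟨k, hk0, hk⟩ := hk
    have h1 : ((Fintype.card F : ℕ) : F) = 0 := FiniteField.cast_card_eq_zero F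
    rw [hk, Nat.cast_pow] at h1
    exact eq_zero_of_pow_eq_zero h1
  have hUp : IsPGroup p U := fun y => ⟨1, Subtype.ext (σ.injective (Subtype.ext ?_))⟩
  swap
  · obtain ⟨h10, h00⟩ := mem_unip.1 (show σ y ∈ unip F from y.2)
    rw [pow_one, Subgroup.coe_pow, map_pow, upper_pow _ h10 h00, hchar, zero_mul,
      OneMemClass.coe_one, map_one, Matrix.SpecialLinearGroup.coe_one, Matrix.one_fin_two]
  refine ⟨F, iF, iFin, P, σ, φ, hPH, hPM, hk, fun u => ?_, fun w => ?_, fun g w w' hw' => ?_,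
    fun g hg => ?_, fun g h10 h00 t ht => ?_, x₀, fun X hX => ?_⟩
  · obtain ⟨w, hw⟩ := hψsurj (Multiplicative.ofAdd ((M : Matrix (Fin 2) (Fin 2) F).mulVec u.toAdd))
    refine ⟨w, Multiplicative.toAdd.injective ?_⟩
    rw [hφ, hw]
    exact hMM' _
  · rw [← hψker w]
    constructor
    · intro h
      have h1 := congrArg (fun z => (M : Matrix (Fin 2) (Fin 2) F).mulVec (Multiplicative.toAdd z)) h
      simp only [hφ, hMM, toAdd_one, Matrix.mulVec_zero] at h1
      exact Multiplicative.toAdd.injective h1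
    · intro h
      refine Multiplicative.toAdd.injective ?_
      rw [hφ, h, toAdd_one, Matrix.mulVec_zero]
  · rw [hφ, hφ, hψeq g w w' hw', hσ, Matrix.SpecialLinearGroup.coe_mul,
      Matrix.SpecialLinearGroup.coe_mul, ← Matrix.mulVec_mulVec, ← Matrix.mulVec_mulVec, hMM]
  · have hUN : U ≤ (borel F).comap σ.toMonoidHom := fun y hy => (mem_unip.1 hy).1
    have hbor : (borel F).comap σ.toMonoidHom ≤ Subgroup.normalizer (U : Set ↥P) := by
      intro y hy
      exact Subgroup.le_normalizer_comap σ.toMonoidHom (borel_le_normalizer F hy)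
    have hN : Subgroup.normalizer (U : Set ↥P) ≠ ⊤ := fun h => hUtop (hcore U hB'U h)
    exact (hkey' _ (hB'U.trans (hUN.trans hbor)) hN (hbor (show σ g ∈ borel F from hg))).2
  · exact hs.fix_of_pgroup (hUp.map P.subtype) ((Subgroup.map_subtype_le _).trans hPH)
      (by rintro _ ⟨y, hy, rfl⟩; exact (hUM hy).2) _ ⟨g, mem_unip.2 ⟨h10, h00⟩, rfl⟩ t ht
  · rw [eq_top_iff, ← hgen x₀ hx₀]
    refine sup_le (fun b hb => (hX b (mem_unip.1 (hB'U hb)).1 (mem_unip.1 (hB'U hb)).2).1) ?_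
    rintro _ ⟨b, hb, rfl⟩
    exact (hX b (mem_unip.1 (hB'U hb)).1 (mem_unip.1 (hB'U hb)).2).2

end CfsgLib.CentralMoved
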