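import Mathlib
import Cfsg.Agent.Lib.CentralMoved.Natural

/-!
The torus of the natural pair stabilises `T` and acts transitively on its commutator.
-/

set_option autoImplicit false
set_option linter.style.haveILetI false

namespace CfsgLib.CentralMoved

open Cfsg
open scoped MatrixGroups

universe u

/-- The split torus. -/
def torus (F : Type*) [Field F] : Fˣ →* SL(2, F) where
  toFun u := ⟨!![(u : F), 0; 0, ((u⁻¹ : Fˣ) : F)], by simp [Matrix.det_fin_two]⟩
  map_one' := by ext i j; fin_cases i <;> fin_cases j <;> simp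
  map_mul' u v := by
    apply Subtype.ext
    show !![((u * v : Fˣ) : F), 0; 0, (((u * v)⁻¹ : Fˣ) : F)] =
      !![(u : F), 0; 0, ((u⁻¹ : Fˣ) : F)] * !![(v : F), 0; 0, ((v⁻¹ : Fˣ) : F)]
    ext i j
    fin_cases i <;> fin_cases j <;> simp [Matrix.mul_apply, Fin.sum_univ_two, mul_comm]

theorem torus_coe {F : Type*} [Field F] (u : Fˣ) :
    ((torus F u : SL(2, F)) : Matrix (Fin 2) (Fin 2) F) = !![(u : F), 0; 0, ((u⁻¹ : Fˣ) : F)] := rfl

/-- The unipotent element. -/
def rootOne (F : Type*) [Field F] : SL(2, F) := ⟨!![1, 1; 0, 1], by simp [Matrix.det_fin_two]⟩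

theorem rootOne_coe (F : Type*) [Field F] :
    ((rootOne F : SL(2, F)) : Matrix (Fin 2) (Fin 2) F) = !![1, 1; 0, 1] := rfl

/-- The Weyl element. -/
def weylOne (F : Type*) [Field F] : SL(2, F) := ⟨!![0, -1; 1, 0], by simp [Matrix.det_fin_two]⟩

theorem weylOne_coe (F : Type*) [Field F] :
    ((weylOne F : SL(2, F)) : Matrix (Fin 2) (Fin 2) F) = !![0, -1; 1, 0] := rfl

variable {V : Type u} [CommGroup V] [Finite V] {p : ℕ} [hp : Fact p.Prime]
variable {H R : Subgroup (MulAut V)} {T : Subgroup V}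

set_option maxHeartbeats 4000000 in
/-- An element normalising `T` which is transitive on its commutator in `T`. -/
theorem Setting.exists_torus (hV : IsPGroup p V) (hp2 : p ≠ 2) (hs : Setting p H R T) :
    ∃ d ∈ H, d ∈ stabT T ∧ ∃ m : ℕ, m.Coprime p ∧ d ^ m = 1 ∧
      ∃ L : Subgroup V, L ≤ T ∧ (∀ i : ℤ, ∀ t ∈ T, (d ^ i) t * t⁻¹ ∈ L) ∧
        (∀ a ∈ L, ∀ b ∈ L, a ≠ 1 → b ≠ 1 → ∃ i : ℤ, (d ^ i) a = b) ∧
        ∃ t ∈ T, d t ≠ t := by
  classical
  obtain ⟨F, _, _, P, σ, φ, hN⟩ := hs.exists_natural hV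
  obtain ⟨k, hk0, hq⟩ := hN.char
  have hpP : p.Prime := hp.out
  have hchar : (p : F) = 0 := by
    have h1 : ((Fintype.card F : ℕ) : F) = 0 := FiniteField.cast_card_eq_zero F
    rw [hq, Nat.cast_pow] at h1
    exact eq_zero_of_pow_eq_zero h1
  have hodd : Odd p := hpP.odd_of_ne_two hp2
  have h2F : (2 : F) ≠ 0 := by
    intro h2
    obtain ⟨j, hj⟩ := hodd
    rw [hj, Nat.cast_add, Nat.cast_mul, Nat.cast_ofNat, h2, zero_mul, zero_add, Nat.cast_one] at hchar
    exact one_ne_zero hchar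
  obtain ⟨γ, hγ⟩ := IsCyclic.exists_generator (α := Fˣ)
  set dP : ↥P := σ.symm (torus F γ) with hdP
  set zP : ↥P := σ.symm (torus F (-1)) with hzP
  have hσd : σ dP = torus F γ := σ.apply_symm_apply _
  have hσz : σ zP = torus F (-1) := σ.apply_symm_apply _
  have hzmat : (σ zP : Matrix (Fin 2) (Fin 2) F) = -1 := by
    rw [hσz]
    ext i j
    fin_cases i <;> fin_cases j <;> simp [torus_coe]
  set z : MulAut V := (zP : MulAut V) with hz
  set d : MulAut V := (dP : MulAut V) with hd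
  have hdT : d ∈ stabT T := hN.line dP (by rw [hσd]; simp [torus_coe])
  have hzT : z ∈ stabT T := hN.line zP (by rw [hzmat]; simp)
  have hzz : ∀ w : V, z (z w) = w := fun w => by
    have : zP * zP = 1 := σ.injective (by
      rw [map_mul, map_one, hσz, ← map_mul, neg_mul_neg, one_mul, map_one])
    exact DFunLike.congr_fun (congrArg Subtype.val this : z * z = 1) w
  have hzc : ∀ g : ↥P, ∀ w : V, z ((g : MulAut V) w) = (g : MulAut V) (z w) := fun g w => by
    have : zP * g = g * zP := σ.injective (Subtype.ext (by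
      rw [map_mul, map_mul, Matrix.SpecialLinearGroup.coe_mul, Matrix.SpecialLinearGroup.coe_mul,
        hzmat, neg_one_mul, mul_neg_one]))
    exact DFunLike.congr_fun (congrArg Subtype.val this : z * g = g * z) w
  -- `U` fixes `T`
  let U : Set ↥P := {g | (σ g : Matrix (Fin 2) (Fin 2) F) 1 0 = 0 ∧
    (σ g : Matrix (Fin 2) (Fin 2) F) 0 0 = 1}
  have hUT : ∀ g ∈ U, ∀ t ∈ T, (g : MulAut V) t = t := fun g hg => hN.point g hg.1 hg.2
  have hWpow : ∀ (g : MulAut V) {w : V}, w ^ p = 1 → g w ^ p = 1 := fun g w hw => by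
    rw [← map_pow, hw, map_one]
  let Φ : ∀ w : V, w ^ p = 1 → Fin 2 → F := fun w hw => Multiplicative.toAdd (φ ⟨w, hw⟩)
  have hΦe : ∀ (g : ↥P) {w : V} (hw : w ^ p = 1) (hw' : (g : MulAut V) w ^ p = 1),
      Φ _ hw' = (σ g : Matrix (Fin 2) (Fin 2) F).mulVec (Φ w hw) := fun g w hw hw' =>
    hN.equi g ⟨w, hw⟩ ⟨_, hw'⟩ rfl
  have hΦm : ∀ {a b : V} (ha : a ^ p = 1) (hb : b ^ p = 1) (hab : (a * b) ^ p = 1),
      Φ _ hab = Φ a ha + Φ b hb := fun {a b} ha hb hab => by
    show Multiplicative.toAdd (φ (⟨a, ha⟩ * ⟨b, hb⟩)) = _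
    rw [map_mul, toAdd_mul]
  have hΦi : ∀ {a : V} (ha : a ^ p = 1) (ha' : a⁻¹ ^ p = 1), Φ _ ha' = -Φ a ha := fun {a} ha ha' => by
    show Multiplicative.toAdd (φ (⟨a, ha⟩⁻¹)) = _
    rw [map_inv, toAdd_inv]
  have hΦk : ∀ {a : V} (ha : a ^ p = 1), Φ a ha = 0 → ∀ g : ↥P, (g : MulAut V) a = a :=
    fun {a} ha h g => (hN.ker ⟨a, ha⟩).1 (Multiplicative.toAdd.injective h) g g.2
  have hΦc : ∀ {a b : V} (ha : a ^ p = 1) (hb : b ^ p = 1), a = b → Φ a ha = Φ b hb := by
    intro a b ha hb h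
    subst h
    rfl
  -- elements of order `p` fixed by `z` are fixed by `P`
  have hWplus : ∀ {a : V}, a ^ p = 1 → z a = a → ∀ g : ↥P, (g : MulAut V) a = a := by
    intro a ha hza
    refine hΦk ha ?_
    have h1 := hΦe zP ha (hWpow z ha)
    have h2 : Φ (z a) (hWpow z ha) = Φ a ha := hΦc _ _ hza
    rw [h2, hzmat, Matrix.neg_mulVec, Matrix.one_mulVec] at h1
    funext i
    have h3 := congrFun h1 i
    rw [Pi.neg_apply, eq_neg_iff_add_eq_zero, ← two_mul] at h3
    exact (mul_eq_zero.1 h3).resolve_left h2F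
  -- inverted elements of order `p` are determined by their coordinates
  have hminus : ∀ {a : V}, a ^ p = 1 → z a = a⁻¹ → (∀ g : ↥P, (g : MulAut V) a = a) → a = 1 := by
    intro a ha hza hfix
    have h1 : a⁻¹ = a := hza ▸ hfix zP
    have h2 : a ^ 2 = 1 := by rw [pow_two]; nth_rewrite 1 [← h1]; exact inv_mul_cancel a
    obtain ⟨j, hj⟩ := hodd
    rw [hj, pow_succ, pow_mul, h2, one_pow, one_mul] at ha
    exact ha
  have hinj : ∀ {a b : V} (ha : a ^ p = 1) (hb : b ^ p = 1), z a = a⁻¹ → z b = b⁻¹ →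
      Φ a ha = Φ b hb → a = b := by
    intro a b ha hb hza hzb h
    have hb' : b⁻¹ ^ p = 1 := by rw [inv_pow, hb, inv_one]
    have hab : (a * b⁻¹) ^ p = 1 := by rw [mul_pow, ha, hb', one_mul]
    refine mul_inv_eq_one.1 (hminus hab (by rw [map_mul, map_inv, hza, hzb]; simp [mul_comm])
      (hΦk hab ?_))
    rw [hΦm ha hb' hab, hΦi hb hb', h, add_neg_cancel]
  -- the inverted elements fixed by `U`
  have hone : ∃ u ∈ U, (σ u : Matrix (Fin 2) (Fin 2) F) 0 1 = 1 :=
    ⟨σ.symm (rootOne F),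
      ⟨by simp [rootOne_coe], by simp [rootOne_coe]⟩, by simp [rootOne_coe]⟩
  have hline : ∀ {a : V} (ha : a ^ p = 1), (∀ u ∈ U, (u : MulAut V) a = a) → Φ a ha 1 = 0 := by
    intro a ha hU
    obtain ⟨u, hu, hu1⟩ := hone
    have h1 := hΦe u ha (hWpow _ ha)
    have h2 : Φ _ (hWpow (u : MulAut V) ha) = Φ a ha := hΦc _ _ (hU u hu)
    rw [h2] at h1
    have h3 := congrFun h1 0
    simp only [Matrix.mulVec, dotProduct, Fin.sum_univ_two, hu.2, hu1, one_mul] at h3
    exact left_eq_add.1 h3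
  have hlineFix : ∀ {a : V} (ha : a ^ p = 1), z a = a⁻¹ → Φ a ha 1 = 0 →
      ∀ u ∈ U, (u : MulAut V) a = a := by
    intro a ha hza h1 u hu
    refine hinj (hWpow _ ha) ha (by rw [hzc u, hza, map_inv]) hza ?_
    rw [hΦe u ha]
    funext i
    fin_cases i <;> simp [Matrix.mulVec, dotProduct, Fin.sum_univ_two, h1, hu.1, hu.2]
  -- the torus is transitive on the line
  have htrans : ∀ {a b : V} (ha : a ^ p = 1) (hb : b ^ p = 1), z a = a⁻¹ → z b = b⁻¹ →
      Φ a ha 1 = 0 → Φ b hb 1 = 0 → a ≠ 1 → b ≠ 1 → ∃ i : ℤ, (d ^ i) a = b := by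
    intro a b ha hb hza hzb ha1 hb1 hane hbne
    have hnz : ∀ {c : V} (hc : c ^ p = 1), z c = c⁻¹ → Φ c hc 1 = 0 → c ≠ 1 → Φ c hc 0 ≠ 0 :=
      fun {c} hc hzc' h1 hne h0 => hne (hminus hc hzc' (hΦk hc (by
        funext i; fin_cases i; exacts [h0, h1])))
    obtain ⟨i, hi⟩ := hγ (Units.mk0 _ (hnz hb hzb hb1 hbne) * (Units.mk0 _ (hnz ha hza ha1 hane))⁻¹)
    simp only at hi
    refine ⟨i, ?_⟩
    have hdi : ((dP ^ i : ↥P) : MulAut V) = d ^ i := Subgroup.coe_zpow _ _ _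
    rw [← hdi]
    refine hinj (hWpow _ ha) hb (by rw [hzc, hza, map_inv]) hzb ?_
    rw [hΦe _ ha, map_zpow, hσd, ← map_zpow, torus_coe]
    have hval : ((γ ^ i : Fˣ) : F) = Φ b hb 0 * (Φ a ha 0)⁻¹ := by rw [hi]; rfl
    funext j
    fin_cases j
    · simp [torus_coe, Matrix.mulVec, dotProduct, Fin.sum_univ_two, ha1, hval, hnz ha hza ha1 hane]
    · simp [torus_coe, Matrix.mulVec, dotProduct, Fin.sum_univ_two, ha1, hb1]
  have hdU : ∀ u ∈ U, ∀ i : ℤ, (dP ^ i)⁻¹ * u * dP ^ i ∈ U := by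
    intro u hu i
    show (σ _ : Matrix (Fin 2) (Fin 2) F) 1 0 = 0 ∧ (σ _ : Matrix (Fin 2) (Fin 2) F) 0 0 = 1
    rw [map_mul, map_mul, map_inv, map_zpow, hσd, ← map_zpow, ← map_inv,
      Matrix.SpecialLinearGroup.coe_mul, Matrix.SpecialLinearGroup.coe_mul, torus_coe, torus_coe]
    constructor
    · simp [Matrix.mul_apply, Matrix.vecMul, dotProduct, Fin.sum_univ_two, hu.1]
    · simp [Matrix.mul_apply, Matrix.vecMul, dotProduct, Fin.sum_univ_two, hu.1, hu.2,
        inv_mul_cancel₀ (zpow_ne_zero i γ.ne_zero)]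
  -- elements fixed by `z` and `U` are fixed by `P`
  have hplus : ∀ n, ∀ v : V, v ^ p ^ n = 1 → z v = v → (∀ u ∈ U, (u : MulAut V) v = v) →
      ∀ g : ↥P, (g : MulAut V) v = v := by
    intro n
    induction n with
    | zero =>
      intro v hv _ _ g
      rw [pow_zero, pow_one] at hv
      rw [hv, map_one]
    | succ n ih =>
      intro v hv hzv hU
      have hp' := ih (v ^ p) (by rw [← pow_mul, ← pow_succ']; exact hv)
        (by rw [map_pow, hzv]) fun u hu => by rw [map_pow, hU u hu]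
      have hc : ∀ g : ↥P, ∀ g' : ↥P, (g' : MulAut V) ((g : MulAut V) v * v⁻¹) =
          (g : MulAut V) v * v⁻¹ := fun g g' => by
        refine hWplus ?_ ?_ g'
        · rw [mul_pow, inv_pow, ← map_pow, hp' g, mul_inv_cancel]
        · rw [map_mul, map_inv, hzc, hzv]
      let St : Subgroup ↥P :=
        { carrier := {g | (g : MulAut V) v = v}
          one_mem' := rfl
          mul_mem' := fun {a b} ha hb => by
            show (a : MulAut V) ((b : MulAut V) v) = v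
            rw [hb, ha]
          inv_mem' := fun {a} ha => by
            show ((a : MulAut V))⁻¹ v = v
            conv_lhs => rw [← ha]
            exact MulAut.inv_apply_self _ _ _ }
      obtain ⟨x, hx⟩ := hN.gen
      have htop : St = ⊤ := hx St fun u h1 h2 => ⟨hU u ⟨h1, h2⟩, by
        show (x : MulAut V) ((u : MulAut V) (((x⁻¹ : ↥P) : MulAut V) v)) = v
        set c := ((x⁻¹ : ↥P) : MulAut V) v * v⁻¹ with hcdef
        have e : ((x⁻¹ : ↥P) : MulAut V) v = c * v := by rw [hcdef, inv_mul_cancel_right]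
        rw [e, map_mul, hU u ⟨h1, h2⟩, hc x⁻¹ u, ← e, Subgroup.coe_inv, MulAut.apply_inv_self]⟩
      exact fun g => htop.ge (Subgroup.mem_top g)
  -- inverted elements fixed by `U` have order at most `p`
  have hexp2 : ∀ v : V, v ^ p ^ 2 = 1 → z v = v⁻¹ → (∀ u ∈ U, (u : MulAut V) v = v) → v ^ p = 1 := by
    intro v hv hzv hU
    by_contra hne
    have hs1 : (v ^ p) ^ p = 1 := by rw [← pow_mul, ← pow_two]; exact hv
    have hzs : z (v ^ p) = (v ^ p)⁻¹ := by rw [map_pow, hzv, inv_pow]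
    have hs0 : Φ _ hs1 1 = 0 := hline hs1 fun u hu => by rw [map_pow, hU u hu]
    obtain ⟨g, hg⟩ := σ.surjective (weylOne F)
    obtain ⟨b, hb, hb1⟩ := hone
    set w := (g : MulAut V) v with hw
    set n := (b : MulAut V) w * w⁻¹ with hn
    have hgs : ((g : MulAut V) (v ^ p)) ^ p = 1 := hWpow _ hs1
    have hgsΦ := hΦe g hs1 hgs
    have hbgs := hΦe b hgs (hWpow _ hgs)
    have hwp : w ^ p = (g : MulAut V) (v ^ p) := (map_pow _ _ _).symm
    have hnp : n ^ p = (b : MulAut V) ((g : MulAut V) (v ^ p)) * ((g : MulAut V) (v ^ p))⁻¹ := by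
      rw [hn, mul_pow, inv_pow, ← map_pow, hwp]
    have hnp1 : (n ^ p) ^ p = 1 := by
      rw [hnp, mul_pow, inv_pow, hgs, hWpow _ hgs, inv_one, one_mul]
    have hgsi : ((g : MulAut V) (v ^ p))⁻¹ ^ p = 1 := by rw [inv_pow, hgs, inv_one]
    have hnΦ : Φ _ hnp1 = ![-(Φ _ hs1 0) * 0 + Φ _ hs1 0, 0] := by
      have h0 : Φ _ hnp1 = Φ _ (show ((b : MulAut V) ((g : MulAut V) (v ^ p)) *
          ((g : MulAut V) (v ^ p))⁻¹) ^ p = 1 from hnp ▸ hnp1) := hΦc _ _ hnp
      rw [h0, hΦm (hWpow _ hgs) hgsi, hΦi hgs hgsi, hbgs, hgsΦ, hg, weylOne_coe]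
      funext i
      fin_cases i <;> simp [Matrix.mulVec, dotProduct, Fin.sum_univ_two, hs0, hb.1, hb.2, hb1]
      · have h := (σ b).det_coe
        rw [Matrix.det_fin_two, hb.1, hb.2] at h
        simp at h
        rw [h, one_mul, add_neg_cancel]
    have hzn : z n = n⁻¹ := by
      rw [hn, map_mul, map_inv, hzc b w, hw, hzc g v, hzv]
      simp [map_inv, mul_comm]
    clear_value n
    have hnp0 : Φ _ hnp1 1 = 0 := by rw [hnΦ]; simp
    have hnne : n ^ p ≠ 1 := by
      intro h1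
      have h2 : Φ _ hnp1 = 0 := by
        have : Φ _ hnp1 = Φ 1 (one_pow p) := hΦc _ _ h1
        rw [this]
        show Multiplicative.toAdd (φ 1) = 0
        rw [map_one]; rfl
      have h3 := congrFun h2 0
      rw [hnΦ] at h3
      simp at h3
      exact hne (hminus hs1 hzs (hΦk hs1 (by funext i; fin_cases i; exacts [h3, hs0])))
    obtain ⟨i, hi⟩ := htrans hs1 hnp1 hzs (by rw [map_pow, hzn, inv_pow]) hs0 hnp0 hne hnne
    set t' := (d ^ i) v with ht'
    have hdi : ((dP ^ i : ↥P) : MulAut V) = d ^ i := Subgroup.coe_zpow _ _ _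
    have ht'fix : ∀ u ∈ U, (u : MulAut V) t' = t' := fun u hu => by
      have h := hU _ (hdU u hu i)
      rw [Subgroup.coe_mul, Subgroup.coe_mul, Subgroup.coe_inv, hdi, MulAut.mul_apply,
        MulAut.mul_apply] at h
      have h2 := congrArg (d ^ i) h
      rwa [MulAut.apply_inv_self] at h2
    have hzt' : z t' = t'⁻¹ := by rw [ht', ← hdi, hzc, hzv, map_inv]
    set e := n * t'⁻¹ with he
    have he1 : e ^ p = 1 := by
      rw [he, mul_pow, inv_pow, ht', ← map_pow, hi, mul_inv_cancel]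
    set n₁ := (b : MulAut V) n * n⁻¹ with hn₁
    have hn₁e : n₁ = (b : MulAut V) e * e⁻¹ := by
      rw [hn₁, he, map_mul, map_inv, ht'fix b hb]
      simp [mul_comm, mul_left_comm, mul_assoc]
    have hei : e⁻¹ ^ p = 1 := by rw [inv_pow, he1, inv_one]
    have hn₁1 : n₁ ^ p = 1 := by rw [hn₁e, mul_pow, hWpow _ he1, hei, one_mul]
    have hn₁fix : (b : MulAut V) n₁ = n₁ := by
      refine hlineFix hn₁1 ?_ ?_ b hb
      · rw [hn₁, map_mul, map_inv, hzc b n, hzn]
        simp [map_inv, mul_comm]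
      · have h0 : Φ _ hn₁1 = Φ _ (show ((b : MulAut V) e * e⁻¹) ^ p = 1 from hn₁e ▸ hn₁1) :=
          hΦc _ _ hn₁e
        rw [h0, hΦm (hWpow _ he1) hei, hΦe b he1, hΦi he1 hei]
        have h := (σ b).det_coe
        rw [Matrix.det_fin_two, hb.1, hb.2] at h
        simp at h
        simp [Matrix.mulVec, dotProduct, Fin.sum_univ_two, hb.1, h]
    have hk' : ∀ j : ℕ, ((b : MulAut V) ^ j) w = w * n ^ j * n₁ ^ j.choose 2 := by
      intro j
      induction j with
      | zero => simp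
      | succ j ih =>
        rw [pow_succ', MulAut.mul_apply, ih, map_mul, map_mul, map_pow, map_pow, hn₁fix,
          show (b : MulAut V) w = w * n by rw [hn]; simp [mul_comm, mul_assoc],
          show (b : MulAut V) n = n * n₁ by rw [hn₁]; simp [mul_comm, mul_assoc],
          mul_pow, show (j + 1).choose 2 = j + j.choose 2 by
            rw [Nat.choose_succ_succ', Nat.choose_one_right],
          pow_add, pow_add, pow_one]
        simp only [mul_comm, mul_left_comm, mul_assoc]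
    have hbp : b ^ p = 1 := σ.injective (Subtype.ext (by
      rw [map_pow, upper_pow _ hb.1 hb.2, hchar, zero_mul, map_one,
        Matrix.SpecialLinearGroup.coe_one, Matrix.one_fin_two]))
    obtain ⟨c, hc⟩ := hpP.dvd_choose_self (two_ne_zero) (lt_of_le_of_ne hpP.two_le (Ne.symm hp2))
    have h1 := hk' p
    rw [show (b : MulAut V) ^ p = 1 by rw [← Subgroup.coe_pow, hbp]; rfl, hc, pow_mul, hn₁1,
      one_pow, mul_one, MulAut.one_apply] at h1
    exact hnne (left_eq_mul.1 h1)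
  have hexp : ∀ n, ∀ v : V, v ^ p ^ n = 1 → z v = v⁻¹ → (∀ u ∈ U, (u : MulAut V) v = v) →
      v ^ p = 1 := by
    intro n
    induction n with
    | zero => intro v hv _ _; rw [pow_zero, pow_one] at hv; rw [hv, one_pow]
    | succ n ih =>
      intro v hv hzv hU
      refine hexp2 v ?_ hzv hU
      rw [pow_two, pow_mul]
      exact ih (v ^ p) (by rw [← pow_mul, ← pow_succ']; exact hv) (by rw [map_pow, hzv, inv_pow])
        fun u hu => by rw [map_pow, hU u hu]
  -- the decomposition of `T`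
  let L : Subgroup V := T ⊓ (MonoidHom.id V * z.toMonoidHom).ker
  have hmemL : ∀ {a : V}, a ∈ L ↔ a ∈ T ∧ z a = a⁻¹ := fun {a} =>
    and_congr_right fun _ => (mul_eq_one_iff_eq_inv' (a := a) (b := z a))
  have hLp : ∀ a ∈ L, a ^ p = 1 := fun a ha => by
    obtain ⟨n, hn⟩ := hV a
    exact hexp n a hn (hmemL.1 ha).2 fun u hu => hUT u hu a (hmemL.1 ha).1
  have hdec : ∀ t ∈ T, (t * (z t)⁻¹ ∈ L) ∧
      ∀ g : ↥P, (g : MulAut V) (t * z t) = t * z t := by
    intro t ht
    have hzt : z t ∈ T := (hzT t).2 ht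
    refine ⟨hmemL.2 ⟨T.mul_mem ht (T.inv_mem hzt), by
      rw [map_mul, map_inv, hzz, mul_inv_rev, inv_inv]⟩, ?_⟩
    obtain ⟨n, hn⟩ := hV (t * z t)
    exact hplus n _ hn (by rw [map_mul, hzz, mul_comm]) fun u hu =>
      hUT u hu _ (T.mul_mem ht hzt)
  have hLsq : ∀ t ∈ T, t ^ 2 = t * (z t)⁻¹ * (t * z t) := fun t _ => by
    rw [mul_mul_mul_comm, inv_mul_cancel, mul_one, pow_two]
  have hsq : ∀ t ∈ T, ∃ r ∈ T, r ^ 2 = t := fun t ht => by
    have h2 : p.Coprime 2 := (Nat.coprime_primes hpP Nat.prime_two).2 hp2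
    exact ⟨((hV.to_subgroup T).powEquiv h2).symm ⟨t, ht⟩, SetLike.coe_mem _,
      congrArg Subtype.val (((hV.to_subgroup T).powEquiv h2).apply_symm_apply ⟨t, ht⟩)⟩
  have hdiT : ∀ i : ℤ, d ^ i ∈ stabT T := fun i => (stabT T).zpow_mem hdT i
  have hcomm : ∀ i : ℤ, ∀ t ∈ T, (d ^ i) t * t⁻¹ ∈ L := by
    intro i t ht
    obtain ⟨r, hr, rfl⟩ := hsq t ht
    obtain ⟨h1, h2⟩ := hdec r hr
    have hdi : ((dP ^ i : ↥P) : MulAut V) = d ^ i := Subgroup.coe_zpow _ _ _
    obtain ⟨h1T, h1z⟩ := hmemL.1 h1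
    have hmem : (d ^ i) (r * (z r)⁻¹) ∈ L :=
      hmemL.2 ⟨(hdiT i _).2 h1T, by rw [← hdi, hzc, h1z, map_inv]⟩
    have e : (d ^ i) (r ^ 2) * (r ^ 2)⁻¹ = (d ^ i) (r * (z r)⁻¹) * (r * (z r)⁻¹)⁻¹ := by
      have h3 : (d ^ i) (r * z r) = r * z r := by rw [← hdi]; exact h2 _
      rw [hLsq r hr, map_mul, h3, mul_inv, mul_mul_mul_comm, mul_inv_cancel, mul_one]
    rw [e]
    exact L.mul_mem hmem (L.inv_mem h1)
  have hγ1 : γ ≠ 1 := by
    intro h1
    obtain ⟨i, hi⟩ := hγ (-1 : Fˣ)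
    rw [h1] at hi
    simp only [one_zpow] at hi
    have h3 : (1 : F) = -1 := by
      have := congrArg (fun u : Fˣ => (u : F)) hi
      simpa using this
    exact h2F (by rw [← one_add_one_eq_two]; nth_rewrite 2 [h3]; exact add_neg_cancel 1)
  refine ⟨d, hN.le dP.2, hdT, Fintype.card F - 1, ?_, ?_, L, inf_le_left, hcomm,
    fun a ha b hb hane hbne => htrans (hLp a ha) (hLp b hb) (hmemL.1 ha).2 (hmemL.1 hb).2
      (hline _ fun u hu => hUT u hu a (hmemL.1 ha).1)
      (hline _ fun u hu => hUT u hu b (hmemL.1 hb).1) hane hbne, ?_⟩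
  · rw [hq, Nat.coprime_comm, hpP.coprime_iff_not_dvd]
    intro hdvd
    have h1 : p ∣ p ^ k := dvd_pow_self p hk0.ne'
    have h2 := Nat.dvd_sub h1 hdvd
    rw [Nat.sub_sub_self (Nat.one_le_pow _ _ hpP.pos)] at h2
    exact hpP.one_lt.ne' (Nat.dvd_one.1 h2)
  · have : dP ^ (Fintype.card F - 1) = 1 := σ.injective (by
      rw [map_pow, hσd, ← map_pow, ← Fintype.card_units, pow_card_eq_one, map_one, map_one])
    rw [hd, ← Subgroup.coe_pow, this]
    rfl
  · by_contra hall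
    push Not at hall
    refine hN.moves fun g hg => mem_stabT_of fun t ht => ?_
    obtain ⟨r, hr, rfl⟩ := hsq t ht
    obtain ⟨h1, h2⟩ := hdec r hr
    have h1one : r * (z r)⁻¹ = 1 := by
      by_contra hne
      obtain ⟨h1T, h1z⟩ := hmemL.1 h1
      have hp1 := hLp _ h1
      have e1 := hΦe dP hp1 (hWpow _ hp1)
      have e2 : Φ _ (hWpow (dP : MulAut V) hp1) = Φ _ hp1 := hΦc _ _ (hall _ h1T)
      rw [e2, hσd] at e1
      have h0 := congrFun e1 0
      simp [torus_coe, Matrix.mulVec, dotProduct, Fin.sum_univ_two] at h0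
      refine hne (hminus hp1 h1z (hΦk hp1 (funext fun i => ?_)))
      fin_cases i
      · by_contra hx
        exact hγ1 (Units.ext ((mul_eq_right₀ hx).1 h0.symm))
      · exact hline hp1 fun u hu => hUT u hu _ h1T
    rw [hLsq r hr, h1one, one_mul, h2 ⟨g, hg⟩]
    exact T.mul_mem hr ((hzT r).2 hr)

end CfsgLib.CentralMoved
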