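import Mathlib
import Cfsg.Agent.Lib.CentralMoved.Torus
import Cfsg.Agent.Lib.Transfer.ThompsonBasics
import Cfsg.Agent.Lib.OddLocal.PGroupFacts

/-!
A group in which the normaliser of the Thompson subgroup normalises a central subgroup `T` moved
by the group.
-/

set_option autoImplicit false
set_option linter.style.haveILetI false

namespace CfsgLib.CentralMoved

open Cfsg

universe u

variable {G : Type u} [Group G]

/-- A normal `p`-subgroup lies in every Sylow subgroup. -/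
theorem normal_le_sylow [Finite G] {p : ℕ} [Fact p.Prime] (P : Sylow p G) {N : Subgroup G}
    (hN : N.Normal) (hp : IsPGroup p N) : N ≤ (P : Subgroup G) := by
  obtain ⟨P', hP'⟩ := hp.exists_le_sylow
  obtain ⟨g, hg⟩ := MulAction.exists_smul_eq G P' P
  intro x hx
  have h1 : g⁻¹ * x * g ∈ (P' : Subgroup G) := hP' (by simpa using hN.conj_mem x hx g⁻¹)
  rw [← hg, Sylow.coe_subgroup_smul, Subgroup.mem_pointwise_smul_iff_inv_smul_mem]
  simpa [MulAut.smul_def] using h1

/-- Conjugation by elements normalising a subgroup. -/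
def conjOn (H W : Subgroup G) (hW : ∀ h ∈ H, ∀ v ∈ W, h * v * h⁻¹ ∈ W) : ↥H →* MulAut ↥W where
  toFun h :=
    { toFun := fun v => ⟨(h : G) * v * (h : G)⁻¹, hW h h.2 v v.2⟩
      invFun := fun v => ⟨(h : G)⁻¹ * v * h, by simpa using hW (h : G)⁻¹ (H.inv_mem h.2) v v.2⟩
      left_inv := fun v => Subtype.ext (by simp [mul_assoc])
      right_inv := fun v => Subtype.ext (by simp [mul_assoc])
      map_mul' := fun a b => Subtype.ext (by simp [mul_assoc]) }
  map_one' := MulEquiv.ext fun v => Subtype.ext (by simp)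
  map_mul' a b := MulEquiv.ext fun v => Subtype.ext (by simp [mul_assoc])

theorem coe_conjOn {H W : Subgroup G} (hW : ∀ h ∈ H, ∀ v ∈ W, h * v * h⁻¹ ∈ W) (h : ↥H) (v : ↥W) :
    ((conjOn H W hW h v : ↥W) : G) = (h : G) * v * (h : G)⁻¹ := rfl

variable [Finite G] {p : ℕ} [hp : Fact p.Prime]

set_option maxHeartbeats 2000000 in
/-- An element of `N(T)` transitive on its commutator in `T`. -/
theorem exists_torus_of_moved (hp2 : p ≠ 2) (R : Sylow p G) (Q : Subgroup G) [hQn : Q.Normal]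
    (hQ : IsPGroup p Q) (T : Subgroup G) (hTQ : T ≤ Q)
    (hTR : T ≤ Subgroup.centralizer ((R : Subgroup G) : Set G))
    (hJ : Subgroup.normalizer (Transfer.thompsonJ 0 (R : Subgroup G) : Set G) ≤
      Subgroup.normalizer (T : Set G))
    (hmove : ¬ (⊤ : Subgroup G) ≤ Subgroup.normalizer (T : Set G)) :
    ∃ d ∈ Subgroup.normalizer (T : Set G), ∃ m : ℕ, m.Coprime p ∧
      (∀ t ∈ T, d ^ m * t * (d ^ m)⁻¹ = t) ∧
      ∃ L : Subgroup G, L ≤ T ∧ (∀ i : ℤ, ∀ t ∈ T, d ^ i * t * (d ^ i)⁻¹ * t⁻¹ ∈ L) ∧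
        (∀ a ∈ L, ∀ b ∈ L, a ≠ 1 → b ≠ 1 → ∃ i : ℤ, d ^ i * a * (d ^ i)⁻¹ = b) ∧
        ∃ t ∈ T, d * t * d⁻¹ ≠ t := by
  classical
  have hQR : Q ≤ (R : Subgroup G) := normal_le_sylow R hQn hQ
  have hTR' : T ≤ (R : Subgroup G) := hTQ.trans hQR
  -- a minimal overgroup moving `T`
  obtain ⟨H, ⟨hRH, hHT⟩, hmin⟩ := Set.exists_min_image
    {K : Subgroup G | (R : Subgroup G) ≤ K ∧ ¬ K ≤ Subgroup.normalizer (T : Set G)}
    (fun K => Nat.card K) (Set.toFinite _) ⟨⊤, le_top, hmove⟩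
  have hminimal : ∀ K : Subgroup G, (R : Subgroup G) ≤ K → K ≤ H → K ≠ H →
      K ≤ Subgroup.normalizer (T : Set G) := fun K h1 h2 h3 => by
    by_contra h4
    exact h3 (Subgroup.eq_of_le_of_card_ge h2 (hmin K ⟨h1, h4⟩))
  set W : Subgroup G := Subgroup.closure {x | ∃ h ∈ H, ∃ t ∈ T, x = h * t * h⁻¹} with hW
  have hgenQ : ∀ h ∈ H, ∀ t ∈ T, ∀ q ∈ Q, h * t * h⁻¹ * q = q * (h * t * h⁻¹) := by
    intro h _ t ht q hq
    have hq' : h⁻¹ * q * h ∈ (R : Subgroup G) := hQR (by simpa using hQn.conj_mem q hq h⁻¹)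
    calc h * t * h⁻¹ * q = h * (t * (h⁻¹ * q * h)) * h⁻¹ := by group
      _ = h * ((h⁻¹ * q * h) * t) * h⁻¹ := by rw [(hTR ht _ hq').symm]
      _ = q * (h * t * h⁻¹) := by group
  have hWQ : W ≤ Q ⊓ Subgroup.centralizer (Q : Set G) := by
    refine (Subgroup.closure_le _).2 ?_
    rintro _ ⟨h, hh, t, ht, rfl⟩
    exact ⟨hQn.conj_mem t (hTQ ht) h, fun q hq => (hgenQ h hh t ht q hq).symm⟩
  have hTW : T ≤ W := fun t ht => Subgroup.subset_closure ⟨1, H.one_mem, t, ht, by simp⟩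
  have hWR : W ≤ (R : Subgroup G) := (hWQ.trans inf_le_left).trans hQR
  have hHW : ∀ h ∈ H, ∀ v ∈ W, h * v * h⁻¹ ∈ W := by
    intro h hh v hv
    have hle : W ≤ W.comap (MulAut.conj h).toMonoidHom := by
      rw [hW, Subgroup.closure_le]
      rintro _ ⟨k, hk, t, ht, rfl⟩
      exact Subgroup.subset_closure ⟨h * k, H.mul_mem hh hk, t, ht, by simp [mul_assoc]⟩
    exact hle hv
  letI : CommGroup ↥W :=
    { (inferInstance : Group ↥W) with
      mul_comm := fun a b => Subtype.ext ((hWQ b.2).2 a ((hWQ a.2).1)) }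
  have hWp : IsPGroup p ↥W := R.2.to_le hWR
  haveI := finite_aut (V := ↥W)
  let act := conjOn H W hHW
  have hact : ∀ (h : ↥H) (v : ↥W), ((act h v : ↥W) : G) = (h : G) * v * (h : G)⁻¹ := coe_conjOn hHW
  set Hb := act.range with hHb
  set R' : Sylow p ↥H := R.subtype hRH with hR'
  set Rb := (R' : Subgroup ↥H).map act with hRb
  set Tb := T.subgroupOf W with hTb
  let Rs : Sylow p ↥Hb := R'.mapSurjective act.rangeRestrict_surjective
  have hRs : ∀ x : ↥Hb, x ∈ (Rs : Subgroup ↥Hb) → (x : MulAut ↥W) ∈ Rb := by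
    rintro _ ⟨y, hy, rfl⟩
    exact ⟨y, hy, rfl⟩
  have hfixR : ∀ r ∈ Rb, ∀ t ∈ Tb, r t = t := by
    rintro _ ⟨y, hy, rfl⟩ t ht
    refine Subtype.ext ?_
    rw [hact, hTR (Subgroup.mem_subgroupOf.1 ht) (y : G) hy, mul_inv_cancel_right]
  have hcore : ∀ K : Subgroup (MulAut ↥W), K ≤ Hb → IsPGroup p K →
      Hb ≤ Subgroup.normalizer (K : Set (MulAut ↥W)) → K = ⊥ := by
    intro K hK hKp hKn
    haveI : (K.subgroupOf Hb).Normal := Subgroup.normal_subgroupOf_of_le_normalizer hKn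
    have h1 : K.subgroupOf Hb ≤ (Rs : Subgroup ↥Hb) := normal_le_sylow Rs inferInstance
      (hKp.of_injective (Subgroup.subgroupOfEquivOfLe hK).toMonoidHom (MulEquiv.injective _))
    refine eq_bot_iff.2 fun k hk => Subgroup.mem_bot.2 (MulEquiv.ext fun v => Subtype.ext ?_)
    obtain ⟨y, rfl⟩ := hK hk
    rw [hact]
    show (y : G) * v * (y : G)⁻¹ = v
    suffices hle : W ≤ Subgroup.centralizer ({(y : G)} : Set G) by
      rw [hle v.2 (y : G) rfl, mul_inv_cancel_right]
    rw [hW, Subgroup.closure_le]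
    rintro _ ⟨h, hh, t, ht, rfl⟩
    rw [SetLike.mem_coe, Subgroup.mem_centralizer_singleton_iff]
    set a := act ⟨h, hh⟩ with ha
    have hk' : a⁻¹ * act y * a ∈ K := by
      have := Subgroup.mem_normalizer_iff.1 (hKn (Hb.inv_mem (⟨_, ha.symm⟩ : a ∈ Hb))) (act y)
      simpa using this.1 hk
    have h2 := hfixR _ (hRs ⟨_, hK hk'⟩ (h1 (Subgroup.mem_subgroupOf.2 hk'))) ⟨t, hTW ht⟩
      (Subgroup.mem_subgroupOf.2 ht)
    have h3 := congrArg (fun z => ((a z : ↥W) : G)) h2
    simp only [MulAut.mul_apply, MulAut.apply_inv_self, ha, hact] at h3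
    exact (mul_inv_eq_iff_eq_mul.1 h3).symm
  have hfaith : ∀ h ∈ Hb, (∀ w : ↥W, w ^ p = 1 → h w = w) → h = 1 := by
    let K : Subgroup (MulAut ↥W) :=
      { carrier := {x | x ∈ Hb ∧ ∀ w : ↥W, w ^ p = 1 → x w = w}
        one_mem' := ⟨Hb.one_mem, fun w _ => rfl⟩
        mul_mem' := fun {a b} ha hb => ⟨Hb.mul_mem ha.1 hb.1, fun w hw => by
          rw [MulAut.mul_apply, hb.2 w hw, ha.2 w hw]⟩
        inv_mem' := fun {a} ha => ⟨Hb.inv_mem ha.1, fun w hw => by
          conv_lhs => rw [← ha.2 w hw]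
          exact MulAut.inv_apply_self _ _ _⟩ }
    have hKb : K = ⊥ := by
      refine hcore K (fun x hx => hx.1) (fun x => ?_) fun g hg => mem_normalizer_of_cj_le ?_
      · set y : MulAut ↥W := (x : MulAut ↥W) ^ (p ^ (orderOf (x : MulAut ↥W)).factorization p) with hy
        have hyK : y ∈ K := K.pow_mem x.2 _
        have hord : (orderOf y).Coprime p := by
          have h0 : orderOf (x : MulAut ↥W) ≠ 0 := (orderOf_pos _).ne'
          rw [hy, orderOf_pow_of_dvd (pow_pos hp.out.pos _).ne' (Nat.ordProj_dvd _ _)]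
          exact (Nat.coprime_ordCompl hp.out h0).symm
        have h1 : y = 1 := MulEquiv.ext fun w =>
          OddLocal.fixed_of_omega_fixed hWp hord ⊤ (fun a _ b _ => mul_comm a b)
            (fun a _ => Subgroup.mem_top _) (fun a _ ha => hyK.2 a ha) w (Subgroup.mem_top w)
        exact ⟨_, Subtype.ext h1⟩
      · rintro _ ⟨x, hx, rfl⟩
        refine ⟨Hb.mul_mem (Hb.mul_mem hg hx.1) (Hb.inv_mem hg), fun w hw => ?_⟩
        show g (x (g⁻¹ w)) = w
        rw [hx.2 (g⁻¹ w) (by rw [← map_pow, hw, map_one]), MulAut.apply_inv_self]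
    intro h hh hw
    exact Subgroup.mem_bot.1 (hKb ▸ (show h ∈ K from ⟨hh, hw⟩))
  have hstab : ∀ h : ↥H, act h ∈ stabT Tb → (h : G) ∈ Subgroup.normalizer (T : Set G) := by
    intro h hh
    refine Subgroup.mem_normalizer_iff_map_conj_eq.mpr (Subgroup.eq_of_le_of_card_ge ?_
      (Subgroup.card_map_of_injective (MulAut.conj (h : G)).injective).ge)
    rintro _ ⟨t, ht, rfl⟩
    have := (hh ⟨t, hTW ht⟩).2 (Subgroup.mem_subgroupOf.2 ht)
    rw [Subgroup.mem_subgroupOf, hact] at this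
    exact this
  -- some abelian subgroup of largest order moves `W`
  obtain ⟨A, hA, hAW⟩ : ∃ A ∈ Transfer.maxAbExp 0 (R : Subgroup G),
      ¬ A ≤ Subgroup.centralizer (W : Set G) := by
    by_contra hcon
    push Not at hcon
    have hJC : Transfer.thompsonJ 0 (R : Subgroup G) ≤
        (R : Subgroup G) ⊓ Subgroup.centralizer (W : Set G) :=
      le_inf (Transfer.thompsonJ_le _ _) (sSup_le fun A hA => hcon A hA)
    set N := act.ker with hN
    have hmemN : ∀ x : ↥H, x ∈ N ↔ (x : G) ∈ Subgroup.centralizer (W : Set G) := by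
      intro x
      constructor
      · intro hx v hv
        have := congrArg (fun f : MulAut ↥W => ((f ⟨v, hv⟩ : ↥W) : G)) (MonoidHom.mem_ker.1 hx)
        simp only [hact, MulAut.one_apply] at this
        exact (mul_inv_eq_iff_eq_mul.1 this).symm
      · intro hx
        refine MonoidHom.mem_ker.2 (MulEquiv.ext fun v => Subtype.ext ?_)
        rw [hact, ← hx v v.2, mul_inv_cancel_right]
        rfl
    set E := (R' : Subgroup ↥H) ⊓ N with hE
    have hEp : IsPGroup p (E.subgroupOf N) :=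
      (R'.2.to_le inf_le_left).of_injective
        (Subgroup.subgroupOfEquivOfLe (inf_le_right : E ≤ N)).toMonoidHom (MulEquiv.injective _)
    obtain ⟨P, hP⟩ := hEp.exists_le_sylow
    set P' := (P : Subgroup ↥N).map N.subtype with hP'
    have hEP : E ≤ P' := fun x hx => ⟨⟨x, hx.2⟩, hP (Subgroup.mem_subgroupOf.2 hx), rfl⟩
    have hPE : P' = E := by
      obtain ⟨S', hS'⟩ := (P.2.map N.subtype).exists_le_sylow
      obtain ⟨g, hg⟩ := Transfer.exists_map_conj_sylow_eq S' R'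
      refine (Subgroup.eq_of_le_of_card_ge hEP ?_).symm
      rw [← Subgroup.card_map_of_injective (K := P') (f := (MulAut.conj g).toMonoidHom)
        (MulEquiv.injective _)]
      refine Subgroup.card_le_of_le (le_inf (hg ▸ Subgroup.map_mono hS') ?_)
      rintro _ ⟨x, ⟨y, hy, rfl⟩, rfl⟩
      exact (act.normal_ker).conj_mem _ y.2 g
    have hfr := Sylow.normalizer_sup_eq_top P
    apply hHT
    have hle : Subgroup.normalizer (P' : Set ↥H) ⊔ N ≤
        (Subgroup.normalizer (T : Set G)).comap H.subtype := by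
      refine sup_le (fun n hn => ?_) fun n hn => ?_
      · rw [hPE] at hn
        refine hJ ?_
        rw [← Transfer.thompsonJ_eq_of_le hJC inf_le_left]
        refine Transfer.normalizer_le_normalizer_thompsonJ 0 _ ?_
        refine Subgroup.mem_normalizer_iff_map_conj_eq.mpr (Subgroup.eq_of_le_of_card_ge ?_
          (Subgroup.card_map_of_injective (MulAut.conj _).injective).ge)
        rintro _ ⟨x, hx, rfl⟩
        have hxH : x ∈ H := hRH hx.1
        have h1 : n * ⟨x, hxH⟩ * n⁻¹ ∈ E :=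
          (Subgroup.mem_normalizer_iff.1 hn _).1 ⟨hx.1, (hmemN _).2 hx.2⟩
        exact ⟨h1.1, (hmemN _).1 h1.2⟩
      · exact Subgroup.centralizer_le_normalizer _
          (Subgroup.centralizer_le (show (T : Set G) ⊆ W from hTW) ((hmemN n).1 hn))
    intro x hx
    exact hle (hfr.ge (Subgroup.mem_top (⟨x, hx⟩ : ↥H)))
  set Ab := (A.subgroupOf H).map act with hAb
  have hAH : A ≤ H := hA.1.trans hRH
  have hAc : ∀ x ∈ A, ∀ y ∈ A, x * y = y * x := fun x hx y hy =>
    haveI := hA.2.1.1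
    congrArg Subtype.val (mul_comm' (⟨x, hx⟩ : A) ⟨y, hy⟩)
  have hoff : Nat.card (omW ↥W p) ≤ meas p Ab := by
    set AC := A ⊓ Subgroup.centralizer (W : Set G) with hAC
    set Wg := (omW ↥W p).map W.subtype with hWg
    have hWgW : Wg ≤ W := Subgroup.map_subtype_le _
    have hX : Transfer.IsAbExp 0 (AC ⊔ Wg) := by
      refine ⟨⟨⟨fun a b => Subtype.ext ?_⟩⟩, fun a _ => pow_zero a⟩
      have hle : AC ⊔ Wg ≤ Subgroup.centralizer ((AC ⊔ Wg : Subgroup G) : Set G) := by
        have h1 : AC ≤ Subgroup.centralizer ((AC ⊔ Wg : Subgroup G) : Set G) := by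
          rw [Subgroup.le_centralizer_iff]
          refine sup_le (fun x hx y hy => (hAc y hy.1 x hx.1)) fun x hx y hy => ?_
          exact (hy.2 x (hWgW hx)).symm
        refine sup_le h1 ?_
        rw [Subgroup.le_centralizer_iff]
        refine sup_le (fun x hx y hy => hx.2 y (hWgW hy)) fun x hx y hy => ?_
        exact congrArg Subtype.val (mul_comm (⟨y, hWgW hy⟩ : ↥W) ⟨x, hWgW hx⟩)
      exact hle b.2 a a.2
    have hXc := hA.2.2 _ (sup_le (inf_le_left.trans hA.1) (hWgW.trans hWR)) hX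
    have h1 := Offender.Timmesfeld.card_mul_card_le AC Wg
    have h2 : Nat.card ↥(AC ⊓ Wg) ≤ Nat.card (fixW p Ab) := by
      rw [← Subgroup.card_map_of_injective (K := fixW p Ab) W.subtype_injective]
      refine Subgroup.card_le_of_le ?_
      rintro _ ⟨hxA, w, hw, rfl⟩
      refine ⟨w, ⟨hw, ?_⟩, rfl⟩
      rintro _ ⟨a, ha, rfl⟩
      refine Subtype.ext ?_
      rw [hact, hAc a ha _ (show ((w : ↥W) : G) ∈ A from hxA.1)]
      exact mul_inv_cancel_right _ _
    have h3 : Nat.card A = Nat.card Ab * Nat.card AC := by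
      set f := act.comp (A.subgroupOf H).subtype with hf
      have hrange : f.range = Ab := by rw [hf, MonoidHom.range_comp, Subgroup.range_subtype]
      have hker : Nat.card f.ker = Nat.card AC := Nat.card_congr
        { toFun := fun x => ⟨((x.1.1 : ↥H) : G), Subgroup.mem_subgroupOf.1 x.1.2, fun v hv => by
            have h := congrArg (fun φ : MulAut ↥W => ((φ ⟨v, hv⟩ : ↥W) : G)) (MonoidHom.mem_ker.1 x.2)
            simp only [hf, MonoidHom.coe_comp, Function.comp_apply, hact, MulAut.one_apply] at h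
            exact (mul_inv_eq_iff_eq_mul.1 h).symm⟩
          invFun := fun y => ⟨⟨⟨y.1, hAH y.2.1⟩, Subgroup.mem_subgroupOf.2 y.2.1⟩,
            MonoidHom.mem_ker.2 (MulEquiv.ext fun v => Subtype.ext (by
              rw [hf, MonoidHom.comp_apply, hact]
              show (y.1 : G) * v * (y.1 : G)⁻¹ = v
              rw [← y.2.2 v v.2, mul_inv_cancel_right]))⟩
          left_inv := fun x => rfl
          right_inv := fun y => rfl }
      rw [← hrange, ← hker,
        ← Nat.card_congr (Subgroup.subgroupOfEquivOfLe hAH).toEquiv,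
        Subgroup.card_eq_card_quotient_mul_card_subgroup f.ker,
        Nat.card_congr (QuotientGroup.quotientKerEquivRange f).toEquiv]
    have h4 : Nat.card Wg = Nat.card (omW ↥W p) := Subgroup.card_map_of_injective W.subtype_injective
    rw [h4] at h1
    have h5 : Nat.card AC * Nat.card (omW ↥W p) ≤ Nat.card AC * meas p Ab :=
      h1.trans ((Nat.mul_le_mul hXc h2).trans_eq (by rw [h3, meas]; ring))
    exact Nat.le_of_mul_le_mul_left h5 Nat.card_pos
  have hs : Setting p Hb Rb Tb := by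
    refine ⟨Subgroup.map_le_range act _, R'.2.map act, ?_, hfixR, fun hle => hHT fun x hx => ?_,
      fun K h1 h2 h3 => ?_, hfaith, hcore, Ab, ?_, ?_, ?_, hoff⟩
    · have h1 := Rs.not_dvd_index
      rwa [show (Rs : Subgroup ↥Hb) = Rb.subgroupOf Hb from ?_] at h1
      ext x
      exact ⟨hRs x, fun ⟨y, hy, e⟩ => ⟨y, hy, Subtype.ext e⟩⟩
    · exact hstab ⟨x, hx⟩ (hle ⟨_, rfl⟩)
    · have hne : (K.comap act).map H.subtype ≠ H := fun e => h3 (le_antisymm h2 fun y hy => by
        obtain ⟨x, rfl⟩ := hy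
        obtain ⟨x', hx', e'⟩ := e.ge x.2
        exact (Subtype.ext e' : x' = x) ▸ hx')
      have hle := hminimal ((K.comap act).map H.subtype) (fun r hr => ⟨⟨r, hRH hr⟩, h1 ⟨⟨r, hRH hr⟩, hr, rfl⟩, rfl⟩)
        (Subgroup.map_subtype_le _) hne
      intro y hy
      obtain ⟨x, rfl⟩ := h2 hy
      refine mem_stabT_of fun t ht => Subgroup.mem_subgroupOf.2 ?_
      rw [hact]
      exact (Subgroup.mem_normalizer_iff.1 (hle ⟨x, hy, rfl⟩) _).1 (Subgroup.mem_subgroupOf.1 ht)
    · rintro _ ⟨x, hx, rfl⟩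
      exact ⟨x, hA.1 hx, rfl⟩
    · rintro _ ⟨x, hx, rfl⟩ _ ⟨y, hy, rfl⟩
      rw [← map_mul, ← map_mul]
      exact congrArg act (Subtype.ext (hAc x hx y hy))
    · intro hbot
      refine hAW fun a ha v hv => ?_
      have : act ⟨a, hAH ha⟩ = 1 := Subgroup.mem_bot.1 (hbot ▸ ⟨⟨a, hAH ha⟩, ha, rfl⟩)
      have h := congrArg (fun φ : MulAut ↥W => ((φ ⟨v, hv⟩ : ↥W) : G)) this
      simp only [hact, MulAut.one_apply] at h
      exact (mul_inv_eq_iff_eq_mul.1 h).symm
  obtain ⟨_, ⟨d, rfl⟩, hdT, m, hm, hd1, L, hLT, hcomm, htrans, t, ht, hne⟩ :=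
    hs.exists_torus hWp hp2
  refine ⟨d, hstab d hdT, m, hm, fun t ht => ?_, L.map W.subtype, ?_, fun i t ht => ?_, ?_,
    t, Subgroup.mem_subgroupOf.1 ht, fun e => hne (Subtype.ext ((hact d t).trans e))⟩
  · have h := hact (d ^ m) ⟨t, hTW ht⟩
    rw [map_pow, hd1, MulAut.one_apply, Subgroup.coe_pow] at h
    exact h.symm
  · rintro _ ⟨x, hx, rfl⟩
    exact Subgroup.mem_subgroupOf.1 (hLT hx)
  · refine ⟨_, hcomm i ⟨t, hTW ht⟩ (Subgroup.mem_subgroupOf.2 ht), ?_⟩
    rw [← map_zpow]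
    show ((act (d ^ i) _ : ↥W) : G) * t⁻¹ = _
    rw [hact, Subgroup.coe_zpow]
  · rintro _ ⟨a, ha, rfl⟩ _ ⟨b, hb, rfl⟩ hane hbne
    obtain ⟨i, hi⟩ := htrans a ha b hb (fun e => hane (by rw [e, map_one]))
      (fun e => hbne (by rw [e, map_one]))
    refine ⟨i, ?_⟩
    rw [← hi, ← map_zpow]
    show _ = ((act (d ^ i) a : ↥W) : G)
    rw [hact, Subgroup.coe_zpow]
    rfl

end CfsgLib.CentralMoved
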