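import Mathlib
import Cfsg.Agent.Lib.CentralMoved.Group
import Cfsg.Agent.Lib.Fusion.RadicalNormalizer
import Cfsg.Agent.Lib.Fusion.StabilizerModel
import Cfsg.Agent.Lib.Fusion.ModelUnique
import Cfsg.Agent.Lib.Fusion.Alperin
import Cfsg.Agent.Lib.Fusion.CentricExtension

/-!
A central subgroup that is stable under the normaliser system of `J(S)` is weakly closed or admits
a cyclic automiser transitive on its commutator.
-/

set_option autoImplicit false
set_option linter.style.haveILetI false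

namespace CfsgLib.CentralMoved

open Cfsg Cfsg.FusionSystem CfsgLib.Fusion

universe u

variable {Ω : Type u} [Group Ω] {S : Subgroup Ω} {F : FusionSystem S} {T : Subgroup Ω}

/-- Moving a set is invariant under conjugation by maps that fix it. -/
theorem moved_conj {A B : Subgroup Ω} {c c' f : Ω → Ω} (hc : IsIso F A B c)
    (hc' : ∀ x ∈ A, c' (c x) = x) (hf : IsIso F A A f) (hTA : T ≤ A)
    (hcT : c '' (T : Set Ω) = T) (hfT : f '' (T : Set Ω) ≠ T) :
    (c ∘ f ∘ c') '' (T : Set Ω) ≠ T := by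
  intro h
  have h1 : c' '' (T : Set Ω) = T := by
    conv_lhs => rw [← hcT]
    rw [Set.image_image, Set.image_congr fun x hx => hc' x (hTA hx), Set.image_id']
  rw [Set.image_comp, Set.image_comp, h1] at h
  refine hfT ((hc.isMap.injOn.image_eq_image_iff ?_ fun x hx => hTA hx).1 (h.trans hcT.symm))
  rintro _ ⟨x, hx, rfl⟩
  exact hf.mem (hTA hx)

/-- An abelian subgroup centralised by `P` lies in the Thompson subgroup of `P`. -/
theorem le_thompsonJ {H : Type*} [Group H] [Finite H] {P U : Subgroup H} (hU : U ≤ P)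
    (hc : U ≤ Subgroup.centralizer (P : Set H)) : U ≤ Transfer.thompsonJ 0 P := by
  obtain ⟨A, hA⟩ := Transfer.thompsonJ_nonempty 0 P
  have hAc : A ≤ Subgroup.centralizer (A : Set H) := fun x hx y hy =>
    haveI := hA.2.1.1
    congrArg Subtype.val (mul_comm' (⟨y, hy⟩ : A) ⟨x, hx⟩)
  have hX : Transfer.IsAbExp 0 (A ⊔ U) := by
    refine ⟨⟨⟨fun a b => Subtype.ext ?_⟩⟩, fun a _ => pow_zero a⟩
    have hle : A ⊔ U ≤ Subgroup.centralizer ((A ⊔ U : Subgroup H) : Set H) := by
      rw [Subgroup.le_centralizer_iff]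
      refine sup_le ?_ ?_
      · rw [Subgroup.le_centralizer_iff]
        refine sup_le hAc fun x hx y hy => hc hx y (hA.1 hy)
      · rw [Subgroup.le_centralizer_iff]
        refine sup_le (fun x hx y hy => (hc hy x (hA.1 hx)).symm) fun x hx y hy => ?_
        exact (hc hy x (hU hx)).symm
    exact hle b.2 a a.2
  have h := Subgroup.eq_of_le_of_card_ge (le_sup_left : A ≤ A ⊔ U)
    (hA.2.2 _ (sup_le hA.1 hU) hX)
  exact (h ▸ le_sup_right : U ≤ A).trans (le_sSup hA)

variable [Finite S] {p : ℕ} [Fact p.Prime]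

/-- Maps stabilising `J(S)` and defined on `T` stabilise `T`. -/
theorem image_eq_of_normalizerSystem (hTS : T ≤ S)
    (hJT : ∀ NJ : FusionSystem (normalizerIn S (thompsonSubgroupAOf S)),
      F.IsNormalizerSystem (thompsonSubgroupAOf S) NJ → ∀ NT : FusionSystem (normalizerIn S T),
      F.IsNormalizerSystem T NT → NJ.IsSubsystemOf NT)
    {P : Subgroup Ω} {g : Ω → Ω} (hg : IsMap F P g) (hJP : Transfer.thompsonJ 0 S ≤ P)
    (hTP : T ≤ P) (hgJ : g '' (Transfer.thompsonJ 0 S : Set Ω) = Transfer.thompsonJ 0 S) :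
    g '' (T : Set Ω) = T := by
  set J := thompsonSubgroupAOf S with hJ
  rw [← Transfer.thompsonSubgroupAOf_eq S, ← hJ] at hJP hgJ
  have hJS : J ≤ S := hJP.trans hg.le
  have hN : normalizerIn S J = S := inf_eq_left.2 <| by
    rw [hJ, Transfer.thompsonSubgroupAOf_eq]
    exact Subgroup.le_normalizer.trans (Transfer.normalizer_le_normalizer_thompsonJ 0 S)
  have hE : F.IsNormalizerSystem J (normalizerSystem F J hJS) := fun _ => rfl
  have hE' : F.IsNormalizerSystem T (normalizerSystem F T hTS) := fun _ => rfl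
  obtain ⟨φ, hφ, hv⟩ : IsMap (normalizerSystem F J hJS) (J ⊔ T) g := by
    refine (isMap_normalizerSystem_iff hE).2 ⟨hN.symm ▸ sup_le hJS hTS,
      fun x hx => hN.symm ▸ hg.mem (sup_le hJP hTP hx), g, ?_, fun x _ => rfl, hgJ⟩
    exact hg.mono (sup_le (sup_le hJP hTP) hJP)
  obtain ⟨-, -, g', -, hag, hgT⟩ :=
    (isMap_normalizerSystem_iff hE').1 (⟨φ, hJT _ hE _ hE' _ hφ, hv⟩ :
      IsMap (normalizerSystem F T hTS) (J ⊔ T) g)
  rw [← Set.image_congr fun x hx => hag x (Subgroup.mem_sup_right hx)]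
  exact hgT

/-- A moved `T` is moved by an automorphism of a centric fully normalised subgroup. -/
theorem exists_centric_moving (hS : IsPGroup p S) (hF : F.IsSaturated p) (hTS : T ≤ S)
    (hTc : T ≤ Subgroup.centralizer (S : Set Ω))
    (hSfix : ∀ g, IsMap F S g → g '' (T : Set Ω) = T)
    {A : Subgroup Ω} {f : Ω → Ω} (hf : IsMap F A f) (hTA : T ≤ A) (hfT : f '' (T : Set Ω) ≠ T) :
    ∃ Q, (F.IsCentric Q ∧ F.IsFullyNormalized Q ∧ T ≤ Q ∧
      ∃ g, IsIso F Q Q g ∧ g '' (T : Set Ω) ≠ T) ∧ Nat.card A ≤ Nat.card Q := by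
  set s := {B : Subgroup Ω | Nat.card A ≤ Nat.card B ∧ T ≤ B ∧
    ∃ g, IsMap F B g ∧ g '' (T : Set Ω) ≠ T}
  obtain ⟨B, ⟨hAB, hTB, g, hg, hgT⟩, hmax⟩ := Set.exists_max_image s (fun B => Nat.card B)
    (finite_subgroups_le _ fun B hB => by obtain ⟨-, -, g, hg, -⟩ := hB; exact hg.le)
    ⟨A, le_rfl, hTA, f, hf, hfT⟩
  have hbig : ∀ (C : Subgroup Ω) (k : Ω → Ω), IsMap F C k → Nat.card B < Nat.card C → T ≤ C →
      k '' (T : Set Ω) = T := fun C k hk hlt hTC => by
    by_contra h
    exact absurd (hmax C ⟨hAB.trans hlt.le, hTC, k, hk, h⟩) (not_le.2 hlt)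
  have hBne : B ≠ S := fun e => hgT (hSfix g (e ▸ hg))
  obtain ⟨B', hB'⟩ := hg.exists_iso
  have hB'ne : B' ≠ S := fun e =>
    hBne (Subgroup.eq_of_le_of_card_ge hg.le (e ▸ hB'.card_eq).le)
  have hTN : ∀ C : Subgroup Ω, C ≤ S → T ≤ normalizerIn S C := fun C hC x hx =>
    ⟨hTS hx, Subgroup.centralizer_le_normalizer _
      (Subgroup.centralizer_le (show (C : Set Ω) ⊆ S from hC) (hTc hx))⟩
  have hbigN : ∀ C : Subgroup Ω, C ≤ S → C ≠ S → Nat.card C = Nat.card B →
      Nat.card B < Nat.card (normalizerIn S C) := by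
    intro C hC hCne hcard
    have := finite_of_le (S := S) (P := normalizerIn S C) inf_le_left
    have h1 := lt_normalizerIn hS hC hCne
    rw [← hcard]
    exact lt_of_le_of_ne (Subgroup.card_le_of_le h1.le) fun h =>
      h1.ne (Subgroup.eq_of_le_of_card_ge h1.le h.ge)
  obtain ⟨R, hBR, hR⟩ := exists_isFullyNormalized (F := F) hg.le
  have haR := isFullyAutomized_of_isFullyNormalized hS hF hR
  have hrR := isReceptive_of_isFullyNormalized hS hF hR
  obtain ⟨a, haN, haB, -, -⟩ := exists_map_normalizerIn hS haR hrR hBR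
  obtain ⟨b, hbN, hbB, -, -⟩ :=
    exists_map_normalizerIn hS haR hrR (isConj_trans (isConj_symm hB'.isConj) hBR)
  have haT : a '' (T : Set Ω) = T := hbig _ a haN (hbigN B hg.le hBne rfl) (hTN B hg.le)
  have hbT : b '' (T : Set Ω) = T :=
    hbig _ b hbN (hbigN B' hB'.le_right hB'ne hB'.card_eq) (hTN B' hB'.le_right)
  obtain ⟨a', ha', ha'1, -⟩ := haB.exists_symm
  have hTR : T ≤ R := fun x hx => by
    obtain ⟨y, hy, rfl⟩ := haT.symm.subset hx
    exact haB.mem (hTB hy)
  have hiso := (ha'.comp hB').comp hbB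
  have hmoved : (b ∘ g ∘ a') '' (T : Set Ω) ≠ T := by
    intro h
    have ha'T : a' '' (T : Set Ω) = T := by
      conv_lhs => rw [← haT]
      rw [Set.image_image, Set.image_congr fun x hx => ha'1 x (hTB hx), Set.image_id']
    rw [Set.image_comp, Set.image_comp, ha'T] at h
    refine hgT ((hbN.injOn.image_eq_image_iff ?_ fun x hx => hTN B' hB'.le_right hx).1
      (h.trans hbT.symm))
    rintro _ ⟨x, hx, rfl⟩
    exact le_normalizerIn hB'.le_right (hB'.mem (hTB hx))
  refine ⟨R, ⟨?_, hR, hTR, _, hiso, hmoved⟩, by rw [haB.card_eq]; exact hAB⟩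
  have hRne : R ≠ S := fun e =>
    hBne (Subgroup.eq_of_le_of_card_ge hg.le (by rw [← haB.card_eq, e]))
  refine (isEssential_of_ne hS hF (lt_of_le_of_ne hR.1 hRne) hR fun hcl => ?_).1
  obtain ⟨α, hα, hαv⟩ := exists_mem_autGroup hiso
  let M : Subgroup (MulAut R) :=
    { carrier := {β | (β '' {x : R | (x : Ω) ∈ T}) = {x : R | (x : Ω) ∈ T}}
      one_mem' := by simp
      mul_mem' := fun {β γ} hβ hγ => by
        simp only [Set.mem_setOf_eq, MulAut.coe_mul, Set.image_comp] at *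
        rw [hγ, hβ]
      inv_mem' := fun {β} hβ => by
        simp only [Set.mem_setOf_eq] at *
        conv_lhs => rw [← hβ]
        rw [Set.image_image]
        simp }
  have hle : Subgroup.closure (extSet F R) ≤ M := by
    rw [Subgroup.closure_le]
    rintro β ⟨C, hRC, k, hk, hkv⟩
    have := finite_of_le hk.le
    have h1 : Nat.card B < Nat.card C := by
      rw [← haB.card_eq]
      refine lt_of_le_of_ne (Subgroup.card_le_of_le hRC.le) fun h => ?_
      exact hRC.ne (Subgroup.eq_of_le_of_card_ge hRC.le h.ge)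
    have hkT := hbig C k hk h1 (hTR.trans hRC.le)
    ext x
    constructor
    · rintro ⟨y, hy, rfl⟩
      show ((β y : R) : Ω) ∈ T
      rw [hkv]
      exact hkT.subset ⟨y, hy, rfl⟩
    · intro hx
      obtain ⟨y, hy, hye⟩ := hkT.symm.subset (show (x : Ω) ∈ (T : Set Ω) from hx)
      exact ⟨⟨y, hTR hy⟩, hy, Subtype.ext ((hkv _).trans hye)⟩
  apply hmoved
  have hαM : α '' {x : R | (x : Ω) ∈ T} = {x : R | (x : Ω) ∈ T} := hle (hcl.symm ▸ hα)
  ext x
  constructor
  · rintro ⟨y, hy, rfl⟩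
    rw [← hαv ⟨y, hTR hy⟩]
    exact hαM.subset (Set.mem_image_of_mem _ (show ((⟨y, hTR hy⟩ : R) : Ω) ∈ T from hy))
  · intro hx
    obtain ⟨y, hy, hye⟩ := hαM.symm.subset
      (show (⟨x, hTR hx⟩ : R) ∈ {x : R | (x : Ω) ∈ T} from hx)
    exact ⟨y, hy, (hαv y).symm.trans (congrArg Subtype.val hye)⟩

set_option maxHeartbeats 1000000 in
/-- The main theorem. -/
theorem weaklyClosed_or_exists_cyclic (hS : IsPGroup p S) (hF : F.IsSaturated p) (hp : p ≠ 2)
    (hT : T ≤ S ⊓ Subgroup.centralizer (S : Set Ω))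
    (hJT : ∀ NJ : FusionSystem (normalizerIn S (thompsonSubgroupAOf S)),
      F.IsNormalizerSystem (thompsonSubgroupAOf S) NJ → ∀ NT : FusionSystem (normalizerIn S T),
      F.IsNormalizerSystem T NT → NJ.IsSubsystemOf NT) :
    F.WeaklyClosed T ∨ ∃ X : Subgroup (MulAut ↥T), X ≤ F.autGroup T ∧ X ≠ ⊥ ∧ IsCyclic ↥X ∧
      (Nat.card ↥X).Coprime p ∧
      ∀ a b : ↥T, a ∈ Subgroup.closure {y : ↥T | ∃ ψ ∈ X, ∃ t : ↥T, y = ψ t * t⁻¹} →
        b ∈ Subgroup.closure {y : ↥T | ∃ ψ ∈ X, ∃ t : ↥T, y = ψ t * t⁻¹} →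
        a ≠ 1 → b ≠ 1 → ∃ ψ ∈ X, ψ a = b := by
  classical
  have hTS : T ≤ S := hT.trans inf_le_left
  have hTc : T ≤ Subgroup.centralizer (S : Set Ω) := hT.trans inf_le_right
  refine or_iff_not_imp_left.2 fun hnw => ?_
  have hJS : Transfer.thompsonJ 0 S ≤ S := Transfer.thompsonJ_le 0 S
  have hSfix : ∀ g, IsMap F S g → g '' (T : Set Ω) = T := by
    intro g hg
    refine image_eq_of_normalizerSystem hTS hJT hg hJS hTS ?_
    obtain ⟨φ, -, hv⟩ := id hg
    have h1 : ∀ U : Subgroup Ω, U ≤ S → g '' (U : Set Ω) = ((U.subgroupOf S).map φ : Set Ω) := by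
      intro U hU
      ext x
      constructor
      · rintro ⟨y, hy, rfl⟩
        exact ⟨⟨y, hU hy⟩, hy, hv _⟩
      · rintro ⟨y, hy, rfl⟩
        exact ⟨y, hy, (hv y).symm⟩
    have h2 : ∀ U : Subgroup Ω, U ≤ S → (U.subgroupOf S).map S.subtype = U := fun U hU =>
      Subgroup.map_subgroupOf_eq_of_le hU
    have hinj : Function.Injective φ := fun x y e => Subtype.ext
      (hg.injOn x.2 y.2 ((hv x).symm.trans (e.trans (hv y))))
    have hsub : (Transfer.thompsonJ 0 S).subgroupOf S = Transfer.thompsonJ 0 (⊤ : Subgroup S) := by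
      refine Subgroup.map_injective S.subtype_injective ?_
      rw [h2 _ hJS, Transfer.map_thompsonJ 0 S.subtype S.subtype_injective.injOn,
        ← MonoidHom.range_eq_map, Subgroup.range_subtype]
    have hrange : φ.range = S := by
      apply SetLike.coe_injective
      rw [← (hg.isIso_of_card_le (fun x hx => hg.mem hx) le_rfl).image_eq]
      ext x
      constructor
      · rintro ⟨y, rfl⟩
        exact ⟨y, y.2, (hv y).symm⟩
      · rintro ⟨y, hy, rfl⟩
        exact ⟨⟨y, hy⟩, hv _⟩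
    rw [h1 _ hJS, hsub, Transfer.map_thompsonJ 0 φ hinj.injOn, ← MonoidHom.range_eq_map, hrange]
  obtain ⟨f, hf, hfT⟩ : ∃ f, IsMap F T f ∧ f '' (T : Set Ω) ≠ T := by
    by_contra hcon
    push Not at hcon
    refine hnw ⟨hTS, fun φ hφ => SetLike.coe_injective ?_⟩
    rw [← image_homFun φ]
    exact hcon _ (isMap_homFun hφ)
  set fam := {Q : Subgroup Ω | F.IsCentric Q ∧ F.IsFullyNormalized Q ∧ T ≤ Q ∧
    ∃ g, IsIso F Q Q g ∧ g '' (T : Set Ω) ≠ T}
  obtain ⟨Q, ⟨hQc, hQn, hTQ, g₀, hg₀, hg₀T⟩, hmax⟩ :=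
    Set.exists_max_image fam (fun Q => Nat.card (normalizerIn S Q))
      (finite_subgroups_le _ fun Q hQ => hQ.1.1)
      (by
        obtain ⟨Q, hQ, -⟩ := exists_centric_moving hS hF hTS hTc hSfix hf le_rfl hfT
        exact ⟨Q, hQ⟩)
  set R := normalizerIn S Q with hR
  have hRS : R ≤ S := inf_le_left
  have hQR : Q ≤ R := le_normalizerIn hQn.1
  haveI := finite_of_le hRS
  have hne : ∀ Q' ∈ fam, Q' ≠ S := fun Q' hQ' e => by
    obtain ⟨-, -, -, g, hg, hgT⟩ := hQ'
    exact hgT (hSfix g (e ▸ hg.isMap))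
  have hbig : ∀ (A : Subgroup Ω) (k : Ω → Ω), IsMap F A k → Nat.card R ≤ Nat.card A → T ≤ A →
      k '' (T : Set Ω) = T := by
    intro A k hk hle hTA
    by_contra h
    obtain ⟨Q', hQ', hcard⟩ := exists_centric_moving hS hF hTS hTc hSfix hk hTA h
    have := finite_of_le (S := S) (P := normalizerIn S Q') inf_le_left
    have h1 := lt_normalizerIn hS hQ'.1.1 (hne Q' hQ')
    have h2 : Nat.card Q' < Nat.card (normalizerIn S Q') :=
      lt_of_le_of_ne (Subgroup.card_le_of_le h1.le) fun e =>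
        h1.ne (Subgroup.eq_of_le_of_card_ge h1.le e.ge)
    have h3 : Nat.card (normalizerIn S Q') ≤ Nat.card R := hmax Q' hQ'
    omega
  -- the model
  obtain ⟨E, hE⟩ : ∃ E, F.IsNormalizerSystem Q E := ⟨normalizerSystem F Q hQn.1, fun _ => rfl⟩
  have h := centricNormal_normalizerSystem hS hF hQn hQc hE
  obtain ⟨G, _, ι, hG⟩ := exists_model h.hS (⟨h.hF, Q, h.hn, h.hc⟩ : E.IsConstrained p)
  obtain ⟨ρ, -, hρs, hρQ, -⟩ := h.exists_action hG
  haveI : Finite G := hG.1
  obtain ⟨hinj, hiff⟩ := hG.2.1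
  obtain ⟨Rs, hRs⟩ := hG.2.2.1
  haveI hQbn := normal_map_of_isModel hG h.hn
  set Qb := (Q.subgroupOf R).map ι
  set Tb := (T.subgroupOf R).map ι with hTb
  have hTR : T ≤ R := hTQ.trans hQR
  have hmemTb : ∀ x : R, ι x ∈ Tb ↔ (x : Ω) ∈ T := fun x =>
    (Subgroup.mem_map_iff_mem hinj).trans Subgroup.mem_subgroupOf
  have hTbR : Tb ≤ Subgroup.centralizer ((Rs : Subgroup G) : Set G) := by
    rintro _ ⟨x, hx, rfl⟩ y hy
    rw [SetLike.mem_coe, hRs] at hy
    obtain ⟨z, rfl⟩ := hy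
    rw [← map_mul, ← map_mul]
    exact congrArg ι (Subtype.ext (hTc hx z (hRS z.2)))
  have hQb : IsPGroup p Qb := (h.hS.to_subgroup _).map ι
  have hmove : ¬ (⊤ : Subgroup G) ≤ Subgroup.normalizer (Tb : Set G) := by
    intro htop
    obtain ⟨α, hα, hαv⟩ := exists_mem_autGroup hg₀
    obtain ⟨g, hg⟩ := hρs ⟨α, (autGroup_normalizerSystem (F := F) hQn.1 hE).symm ▸ hα⟩
    refine hg₀T (image_eq_of_mem hTS hg₀.isMap hTQ fun x hx => ?_)
    have hm := conj_mem_of_mem_normalizer (htop (Subgroup.mem_top g))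
      ((hmemTb ⟨x, hTR hx⟩).2 hx)
    rw [hρQ g ⟨x, hTR hx⟩ (hTQ hx), hmemTb, hg] at hm
    rw [← hαv ⟨x, hTQ hx⟩]
    exact hm
  -- conjugation maps of the model
  let cj : G → Ω → Ω := fun g => fun x =>
    Function.invFunOn (homExt ι) (R : Set Ω) (g * homExt ι x * g⁻¹)
  have hcj : ∀ (g : G) (U : Subgroup Ω), U ≤ R →
      g ∈ Subgroup.normalizer (((U.subgroupOf R).map ι : Subgroup G) : Set G) →
      (∀ x ∈ U, cj g x ∈ U ∧ homExt ι (cj g x) = g * homExt ι x * g⁻¹) ∧
        IsIso F U U (cj g) := by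
    intro g U hU hg
    have h1 : ∀ x ∈ U, cj g x ∈ U ∧ homExt ι (cj g x) = g * homExt ι x * g⁻¹ := by
      intro x hx
      obtain ⟨w, hw, hwe⟩ := conj_mem_of_mem_normalizer hg
        (⟨⟨x, hU hx⟩, hx, rfl⟩ : ι ⟨x, hU hx⟩ ∈ (U.subgroupOf R).map ι)
      have hwx : homExt ι (w : Ω) = g * homExt ι x * g⁻¹ := by
        rw [homExt_apply ι w.2, homExt_apply ι (hU hx)]
        exact hwe
      have h2 := Function.invFunOn_pos (b := g * homExt ι x * g⁻¹)
        ⟨(w : Ω), (w.2 : (w : Ω) ∈ (R : Set Ω)), hwx⟩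
      refine ⟨?_, h2.2⟩
      rw [show cj g x = w from homExt_inj hinj h2.1 w.2 (h2.2.trans hwx.symm)]
      exact hw
    refine ⟨h1, ?_⟩
    have hm : IsMap E U (cj g) :=
      isMap_of_conj ⟨hinj, hiff⟩ hU (fun x hx => hU (h1 x hx).1) fun x hx => (h1 x hx).2
    obtain ⟨-, -, k, hk, hkv, -⟩ := (isMap_normalizerSystem_iff hE).1 hm
    have hm' : IsMap F U (cj g) := (hk.mono le_sup_left).congr hkv
    exact ⟨hm', image_eq_of_mem (hU.trans hRS) hm' le_rfl fun x hx => (h1 x hx).1⟩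
  -- the hypothesis on `J`
  set L := Transfer.thompsonJ 0 R with hL
  have hLR : L ≤ R := Transfer.thompsonJ_le 0 R
  have hLmap : (L.subgroupOf R).map ι = Transfer.thompsonJ 0 (Rs : Subgroup G) := by
    have h1 : L.subgroupOf R = Transfer.thompsonJ 0 (⊤ : Subgroup R) := by
      refine Subgroup.map_injective R.subtype_injective ?_
      rw [Subgroup.map_subgroupOf_eq_of_le hLR,
        Transfer.map_thompsonJ 0 R.subtype R.subtype_injective.injOn,
        ← MonoidHom.range_eq_map, Subgroup.range_subtype]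
    rw [h1, Transfer.map_thompsonJ 0 ι hinj.injOn, ← MonoidHom.range_eq_map, hRs]
  have hTL : T ≤ L := by
    intro x hx
    have := le_thompsonJ (show Tb ≤ (Rs : Subgroup G) from hRs ▸ Subgroup.map_le_range ι _)
      hTbR ((hmemTb ⟨x, hTR hx⟩).2 hx)
    rwa [← hLmap, Subgroup.mem_map_iff_mem hinj, Subgroup.mem_subgroupOf] at this
  have hfixL : ∀ k, IsIso F L L k → k '' (T : Set Ω) = T := by
    intro k hk
    by_cases hRS' : R = S
    · rw [hL, hRS'] at hk
      exact image_eq_of_normalizerSystem hTS hJT hk.isMap le_rfl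
        (by rw [← hRS', ← hL]; exact hTL) hk.image_eq
    by_contra hkT
    have hLS : L ≤ S := hLR.trans hRS
    have hlt : Nat.card R < Nat.card (normalizerIn S L) := by
      have h1 := lt_normalizerIn hS hRS hRS'
      have h2 : normalizerIn S R ≤ normalizerIn S L :=
        inf_le_inf_left _ (Transfer.normalizer_le_normalizer_thompsonJ 0 R)
      have := finite_of_le (S := S) (P := normalizerIn S L) inf_le_left
      exact lt_of_le_of_ne (Subgroup.card_le_of_le (h1.le.trans h2)) fun e =>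
        h1.ne (le_antisymm h1.le
          ((Subgroup.eq_of_le_of_card_ge (h1.le.trans h2) e.ge).symm ▸ h2))
    have hTN : ∀ C : Subgroup Ω, C ≤ S → T ≤ normalizerIn S C := fun C hC x hx =>
      ⟨hTS hx, Subgroup.centralizer_le_normalizer _
        (Subgroup.centralizer_le (show (C : Set Ω) ⊆ S from hC) (hTc hx))⟩
    obtain ⟨V, hLV, hV⟩ := exists_isFullyNormalized (F := F) hLS
    obtain ⟨c, hc, hci, -, -⟩ := exists_map_normalizerIn hS
      (isFullyAutomized_of_isFullyNormalized hS hF hV)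
      (isReceptive_of_isFullyNormalized hS hF hV) hLV
    have hcT : c '' (T : Set Ω) = T := hbig _ c hc hlt.le (hTN L hLS)
    obtain ⟨c', hc', hc'1, -⟩ := hci.exists_symm
    have hTV : T ≤ V := fun x hx => by
      obtain ⟨y, hy, rfl⟩ := hcT.symm.subset hx
      exact hci.mem (hTL hy)
    have hk' : IsIso F V V (c ∘ k ∘ c') := (hc'.comp hk).comp hci
    have hk'T : (c ∘ k ∘ c') '' (T : Set Ω) ≠ T := moved_conj hci hc'1 hk hTL hcT hkT
    obtain ⟨m, hm, hmv⟩ :=
      (isReceptive_iff.1 (isReceptive_of_isFullyNormalized hS hF hV)).2 V _ hk'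
    set K := V ⊔ centralizerIn S V with hK
    have hKS : K ≤ S := sup_le hV.1 inf_le_left
    have hVm : V ≤ nPhi S V (c ∘ k ∘ c') := le_nPhi hk'.isMap
    have hmK : IsMap F K m := hm.mono (sup_le hVm (centralizerIn_le_nPhi _ _))
    have hmV : IsIso F V V m := hk'.congr fun x hx => (hmv x hx).symm
    haveI := finite_of_le hKS
    have hmem : ∀ x ∈ K, m x ∈ K := by
      intro x hx
      obtain ⟨φ, -, hv⟩ := id hmK
      have hle : ((V ⊔ centralizerIn S V).subgroupOf K).map φ ≤ K := by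
        rw [Subgroup.subgroupOf_sup le_sup_left le_sup_right, Subgroup.map_sup]
        refine sup_le ?_ ?_
        · rintro _ ⟨y, hy, rfl⟩
          rw [hv]
          exact Subgroup.mem_sup_left (hmV.mem hy)
        · rintro _ ⟨y, hy, rfl⟩
          rw [hv]
          exact Subgroup.mem_sup_right (hmK.mem_centralizerIn le_sup_left hmV y.2 hy.2)
      have := hle ⟨⟨x, hx⟩, hx, rfl⟩
      rwa [hv] at this
    have hmiso : IsIso F K K m := hmK.isIso_of_card_le hmem le_rfl
    have hmT : m '' (T : Set Ω) ≠ T := by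
      rwa [Set.image_congr fun x hx => hmv x (hTV hx)]
    have hNVK : normalizerIn S V ≤ normalizerIn S K := by
      refine fun s hs => ⟨hs.1, mem_normalizer_of_conj_mem hKS fun x hx => ?_⟩
      have hle : K.map (MulAut.conj s).toMonoidHom ≤ K := by
        rw [hK, Subgroup.map_sup]
        refine sup_le_sup ?_ ?_
        · rintro _ ⟨y, hy, rfl⟩
          exact conj_mem_of_mem_normalizer hs.2 hy
        · rintro _ ⟨y, hy, rfl⟩
          exact NormalCentralizer.mem_centralizerIn_conj hs hy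
      exact hle ⟨x, hx, rfl⟩
    have hcardN : Nat.card R < Nat.card (normalizerIn S K) := by
      have := finite_of_le (S := S) (P := normalizerIn S K) inf_le_left
      exact lt_of_lt_of_le hlt ((hV.2 L (isConj_symm hLV)).trans (Subgroup.card_le_of_le hNVK))
    obtain ⟨K', hKK', hK'⟩ := exists_isFullyNormalized (F := F) hKS
    obtain ⟨d, hd, hdi, -, -⟩ := exists_map_normalizerIn hS
      (isFullyAutomized_of_isFullyNormalized hS hF hK')
      (isReceptive_of_isFullyNormalized hS hF hK') hKK'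
    have hdT : d '' (T : Set Ω) = T := hbig _ d hd hcardN.le (hTN K hKS)
    obtain ⟨d', hd', hd'1, -⟩ := hdi.exists_symm
    have hTK : T ≤ K := hTV.trans le_sup_left
    have hTK' : T ≤ K' := fun x hx => by
      obtain ⟨y, hy, rfl⟩ := hdT.symm.subset hx
      exact hdi.mem (hTK hy)
    have hK'c : F.IsCentric K' := by
      refine isCentric_of_fullyCentralized hS hF
        (isFullyCentralized_of_isFullyNormalized hS hF hK') ?_
      obtain ⟨V', hV'⟩ := (hdi.isMap.mono (le_sup_left : V ≤ K)).exists_iso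
      have hCV : centralizerIn S V ≤ K := le_sup_right
      obtain ⟨D, hD⟩ := (hdi.isMap.mono hCV).exists_iso
      have hDle : D ≤ centralizerIn S V' := fun x hx => by
        obtain ⟨y, hy, rfl⟩ := hD.surj hx
        exact hdi.isMap.mem_centralizerIn le_sup_left hV' (hCV hy) hy.2
      have hDK : D ≤ K' := fun x hx => by
        obtain ⟨y, hy, rfl⟩ := hD.surj hx
        exact hdi.mem (hCV hy)
      have := finite_of_le (S := S) (P := centralizerIn S V') inf_le_left
      have hDeq : D = centralizerIn S V' := Subgroup.eq_of_le_of_card_ge hDle (by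
        rw [hD.card_eq]
        exact (isFullyCentralized_of_isFullyNormalized hS hF hV).2 V' hV'.isConj)
      refine le_trans ?_ hDK
      rw [hDeq]
      refine inf_le_inf_left _ (Subgroup.centralizer_le ?_)
      intro x hx
      obtain ⟨y, hy, rfl⟩ := hV'.surj hx
      exact hdi.mem (Subgroup.mem_sup_left hy)
    have hK'fam : K' ∈ fam :=
      ⟨hK'c, hK', hTK', _, (hd'.comp hmiso).comp hdi, moved_conj hdi hd'1 hmiso hTK hdT hmT⟩
    have h1 : Nat.card (normalizerIn S K') ≤ Nat.card R := hmax K' hK'fam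
    have h2 := hK'.2 K (isConj_symm hKK')
    omega
  have hJ : Subgroup.normalizer (Transfer.thompsonJ 0 (Rs : Subgroup G) : Set G) ≤
      Subgroup.normalizer (Tb : Set G) := by
    intro g hg
    rw [← hLmap] at hg
    obtain ⟨hg1, hg2⟩ := hcj g L hLR hg
    have himg := hfixL _ hg2
    refine Subgroup.mem_normalizer_iff_map_conj_eq.mpr (Subgroup.eq_of_le_of_card_ge ?_
      (Subgroup.card_map_of_injective (MulEquiv.injective _)).ge)
    rintro _ ⟨_, ⟨x, hx, rfl⟩, rfl⟩
    refine ⟨⟨cj g x, hLR (hg1 x (hTL hx)).1⟩, himg.subset ⟨x, hx, rfl⟩, ?_⟩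
    rw [← homExt_apply ι, (hg1 x (hTL hx)).2, homExt_apply ι x.2]
    rfl
  -- the automorphism
  obtain ⟨d, hdT, m, hm, hd1, L₀, -, hcomm, htrans, t₀, ht₀, hne₀⟩ :=
    exists_torus_of_moved hp Rs Qb hQb Tb (Subgroup.map_mono (Subgroup.comap_mono hTQ)) hTbR hJ
      hmove
  obtain ⟨hd2, hd3⟩ := hcj d T hTR hdT
  obtain ⟨α, hα, hαv⟩ := exists_mem_autGroup hd3
  let θ : ↥T →* G := ι.comp (Subgroup.inclusion hTR)
  have hθinj : Function.Injective θ := hinj.comp (Subgroup.inclusion_injective hTR)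
  have hθmem : ∀ x : T, θ x ∈ Tb := fun x => ⟨_, x.2, rfl⟩
  have hθα : ∀ x : T, θ (α x) = d * θ x * d⁻¹ := by
    intro x
    have := (hd2 x x.2).2
    rw [← hαv x, homExt_apply ι (hTR (α x).2), homExt_apply ι (hTR x.2)] at this
    exact this
  have hθpow : ∀ (i : ℤ) (x : T), θ ((α ^ i) x) = d ^ i * θ x * (d ^ i)⁻¹ := by
    intro i
    induction i using Int.induction_on with
    | zero => intro x; simp
    | succ n ih =>
      intro x
      rw [zpow_add_one, MulAut.mul_apply, ih, hθα, zpow_add_one]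
      group
    | pred n ih =>
      intro x
      have h1 : θ (α⁻¹ x) = d⁻¹ * θ x * d := by
        have := hθα (α⁻¹ x)
        rw [MulAut.apply_inv_self] at this
        rw [this]
        group
      rw [zpow_sub_one, MulAut.mul_apply, ih, h1, zpow_sub_one]
      group
  refine ⟨Subgroup.zpowers α, Subgroup.zpowers_le.2 hα, fun hbot => ?_, inferInstance, ?_,
    fun a b ha hb hane hbne => ?_⟩
  · have h1 : α = 1 := Subgroup.zpowers_eq_bot.1 hbot
    obtain ⟨x, hx, rfl⟩ := ht₀
    apply hne₀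
    have := hθα ⟨x, hx⟩
    rw [h1] at this
    exact this.symm
  · have hαm : α ^ m = 1 := MulEquiv.ext fun x => hθinj (by
      have := hθpow (m : ℤ) x
      rw [zpow_natCast, zpow_natCast, hd1 _ (hθmem x)] at this
      exact this)
    rw [Nat.card_zpowers]
    exact Nat.Coprime.coprime_dvd_left (orderOf_dvd_of_pow_eq_one hαm) hm
  · have hle : Subgroup.closure {y : ↥T | ∃ ψ ∈ Subgroup.zpowers α, ∃ t : ↥T, y = ψ t * t⁻¹} ≤
        L₀.comap θ := by
      rw [Subgroup.closure_le]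
      rintro _ ⟨_, ⟨i, rfl⟩, t, rfl⟩
      show θ ((α ^ i) t * t⁻¹) ∈ L₀
      rw [map_mul, map_inv, hθpow]
      exact hcomm i _ (hθmem t)
    obtain ⟨i, hi⟩ := htrans _ (hle ha) _ (hle hb)
      (fun e => hane (hθinj (e.trans (map_one θ).symm)))
      (fun e => hbne (hθinj (e.trans (map_one θ).symm)))
    exact ⟨α ^ i, ⟨i, rfl⟩, hθinj ((hθpow i a).trans hi)⟩

end CfsgLib.CentralMoved
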